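import Cfsg.Agent.Lib.RootSubgroups.Involutions
import Cfsg.Agent.Lib.Involution.BaerSuzuki

/-!
Root involutions with connected odd-order graph: product partners, the four-kind correspondence
between product partners, and the equivalence of the two definitions of the classes `E_d`.
-/

set_option autoImplicit false
open Cfsg Cfsg.Agent.RootSubgroups.RootInv

namespace Cfsg.Agent.RootInv81

variable {G : Type*} [Group G] {D : Set G} {a b c d e k l p q r t x y z : G}

theorem mem_ne_of_odd (h : b ∈ oddPartners D a) : b ≠ a := h.2.1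

section
variable (hD : IsRootInvolutionSet D)
include hD

theorem four_ne_comm (ha : a ∈ D) (hb : b ∈ D) (h : orderOf (a * b) = 4) : a * b ≠ b * a := by
  intro hc
  have h2 := Nat.le_of_dvd two_pos (orderOf_dvd_of_pow_eq_one (sq_of_comm hD ha hb hc))
  omega

theorem sq_mem_of_four (ha : a ∈ D) (hb : b ∈ D) (h : orderOf (a * b) = 4) :
    (a * b) ^ 2 ∈ D :=
  (four_of hD ha hb (four_ne_comm hD ha hb h) (by rw [h]; decide)).2

theorem orderOf_swap (ha : a ∈ D) (hb : b ∈ D) : orderOf (b * a) = orderOf (a * b) := by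
  rw [← orderOf_inv (a * b), mul_inv_rev, inv_eq hD ha, inv_eq hD hb]

theorem conj_self (ha : a ∈ D) (g : G) : g * a * g⁻¹ ∈ D := hD.conj_mem a ha g

theorem conj_mem' (ha : a ∈ D) (hb : b ∈ D) : b * a * b ∈ D := by
  have := hD.conj_mem a ha b
  rwa [inv_eq hD hb] at this

theorem pp_symm (he : e ∈ productPartners D a) (ha : a ∈ D) : a ∈ productPartners D e := by
  obtain ⟨⟨-, hc, hne⟩, hp⟩ := he
  exact ⟨⟨ha, hc.symm, hne.symm⟩, hc ▸ hp⟩

theorem four_sq_swap (ha : a ∈ D) (hb : b ∈ D) (h : orderOf (a * b) = 4) :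
    (b * a) ^ 2 = (a * b) ^ 2 := by
  rw [show b * a = (a * b)⁻¹ by rw [mul_inv_rev, inv_eq hD ha, inv_eq hD hb], inv_pow]
  exact inv_eq_of_mul_eq_one_right (by
    rw [← pow_add, show 2 + 2 = orderOf (a * b) from h.symm, pow_orderOf_eq_one])

theorem four_sq_mul (ha : a ∈ D) (hb : b ∈ D) (h : orderOf (a * b) = 4) :
    (a * b) ^ 2 * a = b * a * b := by
  have hcc := commute_conj_of_four hD ha hb h
  have e1 : (a * b) ^ 2 = a * (b * a * b) := by rw [pow_two]; simp only [mul_assoc]
  rw [e1, mul_assoc a, ← hcc, ← mul_assoc a a, mul_self hD ha, one_mul]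

theorem sq_pp (ha : a ∈ D) (hb : b ∈ D) (h : orderOf (a * b) = 4) :
    (a * b) ^ 2 ∈ productPartners D a := by
  have hcc := commute_conj_of_four hD ha hb h
  have e2 := four_sq_mul hD ha hb h
  have e1 : (a * b) ^ 2 = a * (b * a * b) := by rw [pow_two]; simp only [mul_assoc]
  refine ⟨⟨sq_mem_of_four hD ha hb h, ?_, fun h' => ?_⟩, ?_⟩
  · rw [e1, mul_assoc a (b * a * b) a, ← hcc]
  · rw [h', mul_self hD ha] at e2
    exact ne_one hD (conj_mem' hD ha hb) e2.symm
  · rw [e2]; exact conj_mem' hD ha hb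

theorem sq_pp' (ha : a ∈ D) (hb : b ∈ D) (h : orderOf (a * b) = 4) :
    (a * b) ^ 2 ∈ productPartners D b := by
  rw [← four_sq_swap hD ha hb h]
  exact sq_pp hD hb ha ((orderOf_swap hD ha hb).trans h)

theorem trichotomy (ha : a ∈ D) (hb : b ∈ D) :
    a * b = b * a ∨ (a ≠ b ∧ Odd (orderOf (a * b))) ∨ orderOf (a * b) = 4 := by
  by_cases hc : a * b = b * a
  · exact Or.inl hc
  by_cases ho : Odd (orderOf (a * b))
  · exact Or.inr (Or.inl ⟨fun h => hc (by rw [h]), ho⟩)
  · exact Or.inr (Or.inr (four_of hD ha hb hc ho).1)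

theorem oddPartners_symm (ha : a ∈ D) (h : b ∈ oddPartners D a) : a ∈ oddPartners D b :=
  ⟨ha, h.2.1.symm, by rw [orderOf_swap hD ha h.1]; exact h.2.2⟩

theorem oddPartners_not_comm (ha : a ∈ D) (h : b ∈ oddPartners D a) : a * b ≠ b * a :=
  not_comm_of_odd hD ha h.1 h.2.1.symm h.2.2

theorem oddPartners_not_four (h : b ∈ oddPartners D a) : orderOf (a * b) ≠ 4 := fun h' => by
  have := h.2.2
  rw [h'] at this
  exact absurd this (by decide)

/-- An odd partner of `e` does not centralise a product partner of `e`. -/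
theorem profile (ha : a ∈ D) (he : e ∈ productPartners D a) (hx : x ∈ oddPartners D e) :
    x * a ≠ a * x := by
  intro hc
  obtain ⟨⟨heD, hc', -⟩, hp⟩ := he
  refine no_central_mul hD hx.1 heD ha hx.2.1 ?_ hc.symm hc'.symm (hc' ▸ hp)
  rw [orderOf_swap hD heD hx.1]
  exact hx.2.2

/-- An odd partner of `e` is one of `a` or of `a e`. -/
theorem profile_odd (ha : a ∈ D) (he : e ∈ productPartners D a) (hx : x ∈ oddPartners D e) :
    x ∈ oddPartners D a ∨ x ∈ oddPartners D (a * e) := by
  have hne := profile hD ha he hx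
  obtain ⟨⟨heD, hc, -⟩, hp⟩ := he
  rw [hc] at hp
  have hxe : Odd (orderOf (x * e)) := by rw [orderOf_swap hD heD hx.1]; exact hx.2.2
  rcases triple hD ha heD hc.symm hp hx.1 hx.2.1 hxe with h | h
  · exact Or.inl ⟨hx.1, fun h' => hne (by rw [h']), by rwa [orderOf_swap hD hx.1 ha]⟩
  · refine Or.inr ⟨hx.1, fun h' => hne ?_, by rwa [orderOf_swap hD hx.1 hp]⟩
    rw [h', mul_assoc a e a, hc]

/-- The hexagon: two chained pairs of the four kind give a pair with product of order 3. -/
theorem order_three (ha : a ∈ D) (hr : r ∈ D) (hq : q ∈ D) (hp : p ∈ D)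
    (h1 : orderOf (a * r) = 4) (hq2 : (a * r) ^ 2 = q)
    (h2 : orderOf (q * p) = 4) (ha2 : (q * p) ^ 2 = a) : orderOf (r * p) = 3 := by
  have hqa : q ∈ productPartners D a := hq2 ▸ sq_pp hD ha hr h1
  have hqr : q ∈ productPartners D r := hq2 ▸ sq_pp' hD ha hr h1
  have hac : q * a = a * q := hqa.1.2.1
  have hrc : q * r = r * q := hqr.1.2.1
  have hpc : a * p = p * a := (ha2 ▸ sq_pp' hD hq hp h2 : a ∈ productPartners D p).1.2.1
  have hrar : r * a * r = q * a := by rw [← hq2]; exact (four_sq_mul hD ha hr h1).symm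
  have hpqp : p * q * p = a * q := by rw [← ha2]; exact (four_sq_mul hD hq hp h2).symm
  obtain ⟨g, hg⟩ : ∃ g, g = r * p := ⟨_, rfl⟩
  have hginv : g⁻¹ = p * r := by rw [hg, mul_inv_rev, inv_eq hD hr, inv_eq hD hp]
  have hconj : ∀ u, MulAut.conj g u = r * (p * u * p) * r := fun u => by
    rw [MulAut.conj_apply, hginv, hg]; simp only [mul_assoc]
  have hpap : p * a * p = a := by rw [← hpc, mul_assoc, mul_self hD hp, mul_one]
  have hrqr : r * q * r = q := by rw [← hrc, mul_assoc, mul_self hD hr, mul_one]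
  have c1 : MulAut.conj g a = q * a := by rw [hconj, hpap, hrar]
  have c2 : MulAut.conj g q = a := by
    rw [hconj, hpqp]
    calc r * (a * q) * r = (r * a * r) * (r * q * r) := by
          simp only [mul_assoc]
          rw [← mul_assoc r r, mul_self hD hr, one_mul]
      _ = q * a * q := by rw [hrar, hrqr]
      _ = a := by rw [hac, mul_assoc, mul_self hD hq, mul_one]
  have c3 : MulAut.conj g (q * a) = q := by
    rw [map_mul, c2, c1, hac, ← mul_assoc, mul_self hD ha, one_mul]
  have d2 : MulAut.conj (g ^ 2) a = q := by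
    rw [pow_two, map_mul, MulAut.mul_apply, c1, c3]
  have d3a : MulAut.conj (g ^ 3) a = a := by
    rw [pow_succ', map_mul, MulAut.mul_apply, d2, c2]
  have d3q : MulAut.conj (g ^ 3) q = q := by
    rw [pow_succ', pow_two, map_mul, map_mul, MulAut.mul_apply, MulAut.mul_apply, c2, c1, c3]
  have hqne : q ≠ a := hqa.1.2.2
  have hg2 : g ^ 2 ≠ 1 := fun h => by
    rw [h, map_one, MulAut.one_apply] at d2
    exact hqne d2.symm
  have hg1 : g ≠ 1 := fun h => hg2 (by rw [h, one_pow])
  rw [← hg]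
  rcases trichotomy hD hr hp with h | ⟨-, h⟩ | h
  · exact absurd (hg ▸ sq_of_comm hD hr hp h) hg2
  · rw [← hg] at h
    by_contra hne3
    have hg3 : g ^ 3 ≠ 1 := fun h3 => hne3 (by
      have : Fact (Nat.Prime 3) := ⟨Nat.prime_three⟩
      exact orderOf_eq_prime h3 hg1)
    obtain ⟨m, hm⟩ := id h
    obtain ⟨j, hj⟩ : ∃ j : ℤ, j = -(3 * ((m : ℤ) + 1)) := ⟨_, rfl⟩
    have hr' : g ^ j * r * (g ^ j)⁻¹ = r * g ^ 3 := by
      rw [hg, Involution.conj_zpow_left (mul_self hD hr) (mul_self hD hp), ← hg, hj]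
      congr 1
      rw [show -(2 * -(3 * ((m : ℤ) + 1))) = ((orderOf g : ℕ) : ℤ) * 3 + 3 by rw [hm]; push_cast; ring,
        zpow_add, zpow_mul, zpow_natCast, pow_orderOf_eq_one, one_zpow, one_mul]
      norm_cast
    have hD' : r * g ^ 3 ∈ D := hr' ▸ hD.conj_mem r hr _
    have hx : r * g ^ 3 ∈ oddPartners D r := by
      refine ⟨hD', fun h' => hg3 (mul_eq_left.1 h'), ?_⟩
      rw [← mul_assoc, mul_self hD hr, one_mul]
      exact Odd.of_dvd_nat h (orderOf_pow_dvd 3)
    refine profile hD hq (pp_symm hD hqr hr) hx ?_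
    have hgq : g ^ 3 * q = q * g ^ 3 := by
      rw [MulAut.conj_apply, mul_inv_eq_iff_eq_mul] at d3q
      exact d3q
    rw [mul_assoc, hgq, ← mul_assoc, ← hrc, mul_assoc]
  · exfalso
    rw [← hg] at h
    have h4 : g ^ 4 = 1 := h ▸ pow_orderOf_eq_one g
    have : MulAut.conj (g ^ 4) a = MulAut.conj g a := by
      rw [pow_succ', map_mul, MulAut.mul_apply, d3a]
    rw [h4, map_one, MulAut.one_apply, c1] at this
    exact ne_one hD hq (mul_eq_right.1 this.symm)

theorem four_injective (hqD : q ∈ D) (hz : z ∈ oddPartners D q) (hl : l ∈ productPartners D q)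
    (hk : k ∈ productPartners D q) (hl4 : orderOf (z * l) = 4) (hk4 : orderOf (z * k) = 4)
    (he : (z * l) ^ 2 = (z * k) ^ 2) : l = k := by
  by_contra hne
  obtain ⟨⟨hlD, hlq, -⟩, hlqD⟩ := id hl
  obtain ⟨⟨hkD, hkq, -⟩, hkqD⟩ := id hk
  have e0 : l * z * l = k * z * k := by
    rw [← four_sq_mul hD hz.1 hlD hl4, ← four_sq_mul hD hz.1 hkD hk4, he]
  obtain ⟨g, hg⟩ : ∃ g, g = l * k := ⟨_, rfl⟩
  have hgz : g * z = z * g := by
    have h1 : k * z * k * k = k * z := by rw [mul_assoc (k * z), mul_self hD hkD, mul_one]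
    rw [hg, mul_assoc, ← h1, ← e0]
    simp only [mul_assoc]
    rw [← mul_assoc l l, mul_self hD hlD, one_mul]
  have hgq : g * q = q * g := by rw [hg, mul_assoc, hkq, ← mul_assoc, hlq, mul_assoc]
  have hu : z ∈ oddPartners D (l * q) := by
    rcases profile_odd hD hlD (pp_symm hD hl hqD) hz with h' | h'
    · exact absurd ((orderOf_swap hD hz.1 hlD).trans hl4) (oddPartners_not_four hD h')
    · exact h'
  have huo : Odd (orderOf (z * (l * q))) := by rw [orderOf_swap hD hlqD hz.1]; exact hu.2.2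
  rcases trichotomy hD hlD hkD with h | ⟨-, h⟩ | h
  · have hgl : g * l = k := by rw [hg, h, mul_assoc, mul_self hD hlD, mul_one]
    have hlg : l * g = k := by rw [hg, ← mul_assoc, mul_self hD hlD, one_mul]
    have hg2 : orderOf g = 2 := by
      refine orderOf_eq_prime (by rw [hg]; exact sq_of_comm hD hlD hkD h) fun h1 => hne ?_
      exact eq_of_orderOf_one hD hlD (orderOf_eq_one_iff.2 (hg ▸ h1))
    have hgu : Commute g (l * q) := Commute.mul_right (show g * l = l * g by rw [hgl, hlg]) hgq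
    refine no_double hD hz.1 (show g * (l * q) ∈ D by rw [← mul_assoc, hgl]; exact hkqD) hg2
      (Commute.mul_right hgz hgu) huo ?_ ?_
    · intro h1
      exact hu.2.1 (eq_of_orderOf_one hD hz.1 (orderOf_eq_one_iff.2 h1))
    · rw [← mul_assoc z g, ← hgz, mul_assoc g]
  · exact profile hD hqD hl ⟨hkD, Ne.symm hne, h⟩ hkq
  · obtain ⟨c, hc⟩ : ∃ c, c = (l * k) ^ 2 := ⟨_, rfl⟩
    have hcD : c ∈ D := hc ▸ sq_mem_of_four hD hlD hkD h
    have hcl : c * l = k * l * k := hc ▸ four_sq_mul hD hlD hkD h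
    have hcl' : c * l = l * c := (hc ▸ sq_pp hD hlD hkD h : c ∈ productPartners D l).1.2.1
    have hcz : Commute c z := by rw [hc, ← hg]; exact (show Commute g z from hgz).pow_left 2
    have hcq : Commute c q := by rw [hc, ← hg]; exact (show Commute g q from hgq).pow_left 2
    refine no_central_mul hD hz.1 hlqD hcD hu.2.1 huo hcz (Commute.mul_right hcl' hcq) ?_
    have : k * l * k * q = k * (l * q) * k := by
      rw [mul_assoc (k * l), hkq]; simp only [mul_assoc]
    rw [← mul_assoc, hcl, this]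
    exact conj_mem' hD hlqD hkD

theorem four_image (hqD : q ∈ D) (hz : z ∈ oddPartners D q) (hl : l ∈ productPartners D q)
    (hl4 : orderOf (z * l) = 4) :
    (z * l) ^ 2 ∈ productPartners D z ∧ orderOf (q * (z * l) ^ 2) = 4 := by
  have hlD := hl.1.1
  have hpz := sq_pp hD hz.1 hlD hl4
  have hpl := sq_pp' hD hz.1 hlD hl4
  refine ⟨hpz, ?_⟩
  rcases trichotomy hD hqD hpz.1.1 with h | ⟨hne, h⟩ | h
  · exact absurd h (profile hD hpz.1.1 (pp_symm hD hpz hz.1) (oddPartners_symm hD hqD hz))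
  · exact absurd hpl.1.2.1 (profile hD hlD (pp_symm hD hl hqD) ⟨hpz.1.1, hne.symm, h⟩)
  · exact h

/-- Every product partner of `z` four to `q` comes from a product partner of `q` four to `z`. -/
theorem four_lift [Finite G] (hqD : q ∈ D) (hz : z ∈ oddPartners D q)
    (hp : p ∈ productPartners D z) (hp4 : orderOf (q * p) = 4) :
    ∃ l ∈ productPartners D q, orderOf (z * l) = 4 ∧ (z * l) ^ 2 = p := by
  have hq := oddPartners_symm hD hqD hz
  let S : Set G := {l | l ∈ productPartners D q ∧ orderOf (z * l) = 4}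
  let T : Set G := {l | l ∈ productPartners D z ∧ orderOf (q * l) = 4}
  have h1 : (fun l => (z * l) ^ 2) '' S ⊆ T := by
    rintro _ ⟨l, hl, rfl⟩
    exact four_image hD hqD hz hl.1 hl.2
  have h2 : T.ncard ≤ S.ncard := by
    refine Set.ncard_le_ncard_of_injOn (fun l => (q * l) ^ 2) ?_ ?_ (Set.toFinite _)
    · exact fun l hl => four_image hD hz.1 hq hl.1 hl.2
    · exact fun u hu v hv h => four_injective hD hz.1 hq hu.1 hv.1 hu.2 hv.2 h
  have h3 : (fun l => (z * l) ^ 2) '' S = T := by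
    refine Set.eq_of_subset_of_ncard_le h1 ?_ (Set.toFinite _)
    rw [Set.InjOn.ncard_image
      fun u hu v hv h => four_injective hD hqD hz hu.1 hv.1 hu.2 hv.2 h]
    exact h2
  obtain ⟨l, hl, hlp⟩ := (h3 ▸ (⟨hp, hp4⟩ : p ∈ T) : p ∈ (fun l => (z * l) ^ 2) '' S)
  exact ⟨l, hl.1, hl.2, hlp⟩

theorem conj_oddPartners (g : G) (a : G) :
    oddPartners D (g * a * g⁻¹) = MulAut.conj g '' oddPartners D a := by
  ext u
  constructor
  · rintro ⟨huD, hne, ho⟩
    refine ⟨g⁻¹ * u * g, ⟨?_, fun h => hne ?_, ?_⟩, ?_⟩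
    · simpa using hD.conj_mem u huD g⁻¹
    · rw [← h]; group
    · have : g * a * g⁻¹ * u = MulAut.conj g (a * (g⁻¹ * u * g)) := by
        rw [MulAut.conj_apply]; group
      rwa [this, MulEquiv.orderOf_eq] at ho
    · rw [MulAut.conj_apply]; group
  · rintro ⟨w, ⟨hwD, hne, ho⟩, rfl⟩
    refine ⟨hD.conj_mem w hwD g, fun h => hne ((MulAut.conj g).injective h), ?_⟩
    rw [← MulAut.conj_apply g a, ← map_mul, MulEquiv.orderOf_eq]
    exact ho

variable (hc : IsConnectedSet (OddAdj D) D)
include hc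

theorem exists_conj (ha : a ∈ D) (hb : b ∈ D) : ∃ g : G, b = g * a * g⁻¹ := by
  induction hc a ha b hb with
  | refl => exact ⟨1, by simp⟩
  | @tail u v _ huv ih =>
    obtain ⟨g, hg⟩ := ih huv.1
    obtain ⟨j, hj⟩ :=
      Involution.exists_conj_of_odd (mul_self hD huv.1) (mul_self hD huv.2.1) huv.2.2.2
    refine ⟨(u * v) ^ j * g, ?_⟩
    generalize (u * v) ^ j = w at hj ⊢
    rw [← hj, hg]
    group

theorem eq_of_subset_oddPartners [Finite G] (ha : a ∈ D) (hb : b ∈ D)
    (h : oddPartners D a ⊆ oddPartners D b) : oddPartners D a = oddPartners D b := by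
  obtain ⟨g, rfl⟩ := exists_conj hD hc ha hb
  refine Set.eq_of_subset_of_ncard_le h ?_ (Set.toFinite _)
  rw [conj_oddPartners hD, Set.ncard_image_of_injective _ (MulAut.conj g).injective]

theorem exists_odd_sdiff [Finite G] (ha : a ∈ D) (hb : b ∈ D)
    (h : oddPartners D a ≠ oddPartners D b) : ∃ w, w ∈ oddPartners D a ∧ w ∉ oddPartners D b := by
  by_contra hcon
  push Not at hcon
  exact h (eq_of_subset_oddPartners hD hc ha hb hcon)

theorem oddPartners_mul_eq [Finite G] (ha : a ∈ D) (he : e ∈ productPartners D a)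
    (h1 : oddPartners D a = oddPartners D b) (h2 : oddPartners D (a * e) = oddPartners D b)
    (hb : b ∈ D) : oddPartners D e = oddPartners D b := by
  refine eq_of_subset_oddPartners hD hc he.1.1 hb fun x hx => ?_
  rcases profile_odd hD ha he hx with h | h
  · exact h1 ▸ h
  · exact h2 ▸ h

end

/-- A set of involutions with products of order dividing 4 that its own members permute
generates a 2-group. -/
theorem isPGroup_closure_of_pow_four [Finite G] (K : Set G)
    (hK : K ⊆ (Subgroup.normalizer K : Subgroup G))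
    (h1 : ∀ x ∈ K, x * x = 1) (h4 : ∀ x ∈ K, ∀ y ∈ K, (x * y) ^ 4 = 1) :
    IsPGroup 2 (Subgroup.closure K) := by
  have hU : Subgroup.closure K ≤ Subgroup.normalizer K := (Subgroup.closure_le _).2 hK
  have h := Involution.baerSuzuki_set (p := 2)
    ((((↑) : Subgroup.closure K → G) ⁻¹' K))
    (fun g x hx => by
      have := (Subgroup.mem_set_normalizer_iff.1 (hU g.2) (x : G)).1 hx
      simpa using this)
    (fun x hx y hy g => by
      have hx1 : x * x = 1 := Subtype.ext (h1 _ hx)
      have hy1 : y * y = 1 := Subtype.ext (h1 _ hy)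
      have hxy : (x * y) ^ 4 = 1 := Subtype.ext (h4 _ hx _ hy)
      obtain ⟨j, hj⟩ := (Involution.mem_closure_pair_involutions hx1 hy1).1 g.2
      refine ⟨2, Subtype.ext ?_⟩
      push_cast
      rcases hj with hj | hj
      · rw [hj, ← zpow_natCast ((x * y) ^ j), ← zpow_mul, mul_comm j, zpow_mul, zpow_natCast]
        rw [hxy, one_zpow]
      · rw [hj, show (4 : ℕ) = 2 * 2 from rfl, pow_mul, pow_two (x * (x * y) ^ j),
          Involution.left_mul_zpow_sq hx1 hy1, one_pow])
  rw [Subgroup.closure_closure_coe_preimage] at h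
  exact h.of_equiv Subgroup.topEquiv

section
variable (hD : IsRootInvolutionSet D) (hc : IsConnectedSet (OddAdj D) D)
include hD hc

open scoped commutatorElement in
/-- Members with the same odd partners commute. -/
theorem comm_of_oddPartners_eq [Finite G] (he : e ∈ D) (ht : t ∈ D)
    (h : oddPartners D e = oddPartners D t) : e * t = t * e := by
  obtain ⟨K, hKdef⟩ : ∃ K : Set G, K = {x | x ∈ D ∧ oddPartners D x = oddPartners D e} := ⟨_, rfl⟩
  have memK : ∀ {x}, x ∈ K ↔ x ∈ D ∧ oddPartners D x = oddPartners D e := fun {x} => by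
    rw [hKdef]; rfl
  have hconjK : ∀ g x, x ∈ K → g * x * g⁻¹ ∈ K → ∀ y ∈ K, g * y * g⁻¹ ∈ K := by
    intro g x hx hgx y hy
    refine memK.2 ⟨hD.conj_mem y (memK.1 hy).1 g, ?_⟩
    rw [conj_oddPartners hD, (memK.1 hy).2, ← (memK.1 hx).2, ← conj_oddPartners hD,
      (memK.1 hgx).2, (memK.1 hx).2]
  have hpair : ∀ x ∈ K, ∀ y ∈ K, x * y = y * x ∨ orderOf (x * y) = 4 := by
    intro x hx y hy
    rcases trichotomy hD (memK.1 hx).1 (memK.1 hy).1 with h' | ⟨hne, ho⟩ | h'
    · exact Or.inl h'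
    · exfalso
      have hy' : y ∈ oddPartners D x := ⟨(memK.1 hy).1, hne.symm, ho⟩
      rw [(memK.1 hx).2, ← (memK.1 hy).2] at hy'
      exact hy'.2.1 rfl
    · exact Or.inr h'
  have hnorm : K ⊆ (Subgroup.normalizer K : Subgroup G) := by
    intro x hx
    refine Subgroup.mem_set_normalizer_iff.2 fun y => ?_
    have hxx : x * x * x⁻¹ = x := mul_inv_cancel_right x x
    refine ⟨fun hy => hconjK x x hx (by rw [hxx]; exact hx) y hy, fun hy => ?_⟩
    have := hconjK x x hx (by rw [hxx]; exact hx) _ hy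
    rwa [inv_eq hD (memK.1 hx).1, ← mul_assoc, ← mul_assoc, mul_self hD (memK.1 hx).1, one_mul,
      mul_assoc, mul_self hD (memK.1 hx).1, mul_one] at this
  have hP : IsPGroup 2 (Subgroup.closure K) := by
    refine isPGroup_closure_of_pow_four K hnorm (fun x hx => mul_self hD (memK.1 hx).1)
      fun x hx y hy => ?_
    rcases hpair x hx y hy with h' | h'
    · rw [show 4 = 2 * 2 from rfl, pow_mul, sq_of_comm hD (memK.1 hx).1 (memK.1 hy).1 h', one_pow]
    · exact h' ▸ pow_orderOf_eq_one _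
  have : Fact (Nat.Prime 2) := ⟨Nat.prime_two⟩
  obtain ⟨N, hN⟩ := (Subgroup.isNilpotent_iff_lowerCentralSeries _).1 hP.isNilpotent
  classical
  have heK : e ∈ K := memK.2 ⟨he, rfl⟩
  have hex : ∃ n, ∀ x ∈ K, x ∉ (Subgroup.closure K).lowerCentralSeries n := ⟨N, fun x hx hxN => by
    rw [hN, Subgroup.mem_bot] at hxN
    exact ne_one hD (memK.1 hx).1 hxN⟩
  obtain ⟨m, hm⟩ : ∃ m, Nat.find hex = m + 1 := by
    refine Nat.exists_eq_succ_of_ne_zero fun h0 => ?_
    have := Nat.find_spec hex e heK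
    rw [h0, Subgroup.lowerCentralSeries_zero] at this
    exact this (Subgroup.subset_closure heK)
  have hmin := Nat.find_min hex (show m < Nat.find hex by omega)
  push Not at hmin
  obtain ⟨e0, he0K, he0⟩ := hmin
  have hlast := Nat.find_spec hex
  rw [hm] at hlast
  have hcent : ∀ k ∈ K, e0 * k = k * e0 := by
    intro k hk
    refine (hpair e0 he0K k hk).resolve_right fun h4 => ?_
    obtain ⟨he0D, he0A⟩ := memK.1 he0K
    obtain ⟨hkD, hkA⟩ := memK.1 hk
    have hce := sq_pp hD he0D hkD h4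
    have hce2 : e0 * (e0 * k) ^ 2 = k * e0 * k := by
      rw [← hce.1.2.1]; exact four_sq_mul hD he0D hkD h4
    have hkek : k * e0 * k⁻¹ ∈ K := hconjK k k hk (by rw [mul_inv_cancel_right]; exact hk) e0 he0K
    rw [inv_eq hD hkD] at hkek
    refine hlast _ (memK.2 ⟨hce.1.1, oddPartners_mul_eq hD hc he0D hce he0A ?_ he⟩) ?_
    · rw [hce2]; exact (memK.1 hkek).2
    · rw [Subgroup.lowerCentralSeries_succ]
      have hcomm := Subgroup.commutator_mem_commutator (H₂ := Subgroup.closure K) he0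
        (Subgroup.subset_closure hk)
      rw [commutatorElement_def, inv_eq hD he0D, inv_eq hD hkD] at hcomm
      simpa [pow_two, mul_assoc] using hcomm
  have hall : ∀ x ∈ K, ∀ y ∈ K, x * y = y * x := by
    intro x hx y hy
    obtain ⟨g, rfl⟩ := exists_conj hD hc (memK.1 he0K).1 (memK.1 hx).1
    have himg : MulAut.conj g '' K = K := by
      refine Set.eq_of_subset_of_ncard_le ?_ ?_ (Set.toFinite _)
      · rintro _ ⟨u, hu, rfl⟩
        exact hconjK g e0 he0K hx u hu
      · rw [Set.ncard_image_of_injective _ (MulAut.conj g).injective]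
    obtain ⟨u, hu, rfl⟩ := (himg.symm ▸ hy : y ∈ MulAut.conj g '' K)
    rw [← MulAut.conj_apply, ← map_mul, ← map_mul, hcent u hu]
  exact hall e heK t (memK.2 ⟨ht, h.symm⟩)

theorem comm_subset_of_oddPartners_eq [Finite G] (hd : d ∈ D) (he : e ∈ D)
    (h : oddPartners D d = oddPartners D e) (ht : t ∈ D) (htd : t * d = d * t) : t * e = e * t := by
  rcases trichotomy hD he ht with hc' | ⟨hne, ho⟩ | h4
  · exact hc'.symm
  · exfalso
    have ht' : t ∈ oddPartners D e := ⟨ht, hne.symm, ho⟩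
    rw [← h] at ht'
    exact oddPartners_not_comm hD hd ht' htd.symm
  · exfalso
    obtain ⟨c, hcd⟩ : ∃ c, c = (e * t) ^ 2 := ⟨_, rfl⟩
    have hce : c ∈ productPartners D e := hcd ▸ sq_pp hD he ht h4
    have hct : c ∈ productPartners D t := hcd ▸ sq_pp' hD he ht h4
    have hec : e * c = t * e * t := by rw [← hce.1.2.1, hcd]; exact four_sq_mul hD he ht h4
    have hA2 : oddPartners D (e * c) = oddPartners D e := by
      rw [hec]
      rw [show t * e * t = t * e * t⁻¹ by rw [inv_eq hD ht], conj_oddPartners hD, ← h, ← conj_oddPartners hD, htd, mul_inv_cancel_right]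
    have hA : oddPartners D c = oddPartners D e := oddPartners_mul_eq hD hc he hce rfl hA2 he
    have hne : oddPartners D c ≠ oddPartners D t := fun h' =>
      four_ne_comm hD he ht h4 (comm_of_oddPartners_eq hD hc he ht (hA.symm.trans h'))
    obtain ⟨w, hwc, hwt⟩ := exists_odd_sdiff hD hc hce.1.1 ht hne
    have hwt4 : orderOf (w * t) = 4 := by
      rcases trichotomy hD hwc.1 ht with h' | ⟨hne', ho⟩ | h'
      · exact absurd h' (profile hD ht hct hwc)
      · exact absurd ⟨hwc.1, hne', by rwa [orderOf_swap hD hwc.1 ht]⟩ hwt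
      · exact h'
    obtain ⟨m, hm, hm4, hm2⟩ := four_lift hD hwc.1 (oddPartners_symm hD hce.1.1 hwc)
      (pp_symm hD hct ht) hwt4
    have h3 : orderOf (e * m) = 3 :=
      order_three hD ht he hce.1.1 hm.1.1 ((orderOf_swap hD he ht).trans h4)
        (by rw [four_sq_swap hD he ht h4, hcd]) hm4 hm2
    have hme : m ∈ oddPartners D e :=
      ⟨hm.1.1, fun h' => by rw [h', mul_self hD he, orderOf_one] at h3; omega,
        h3 ▸ (by decide : Odd 3)⟩
    rw [← hA] at hme
    exact oddPartners_not_four hD hme hm4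

theorem comm_eq_iff_oddPartners_eq [Finite G] (hd : d ∈ D) (he : e ∈ D) :
    commutingMembers D d = commutingMembers D e ↔ oddPartners D d = oddPartners D e := by
  constructor
  · intro h
    refine eq_of_subset_oddPartners hD hc hd he fun w hw => ?_
    have hiff : ∀ u ∈ D, u * d = d * u ↔ u * e = e * u := fun u hu => by
      have := Set.ext_iff.1 h u
      simp only [commutingMembers, Set.mem_ofPred_eq, hu, true_and] at this
      exact this
    rcases trichotomy hD he hw.1 with hc' | ⟨hne, ho⟩ | h4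
    · exact absurd ((hiff w hw.1).2 hc'.symm).symm (oddPartners_not_comm hD hd hw)
    · exact ⟨hw.1, hne.symm, ho⟩
    · exfalso
      have h1 := sq_pp hD he hw.1 h4
      have h2 := sq_pp' hD he hw.1 h4
      exact profile hD h1.1.1 (pp_symm hD h2 hw.1) (oddPartners_symm hD hd hw)
        ((hiff _ h1.1.1).2 h1.1.2.1).symm
  · intro h
    ext u
    exact ⟨fun hu => ⟨hu.1, comm_subset_of_oddPartners_eq hD hc hd he h hu.1 hu.2⟩,
      fun hu => ⟨hu.1, comm_subset_of_oddPartners_eq hD hc he hd h.symm hu.1 hu.2⟩⟩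

end

end Cfsg.Agent.RootInv81
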