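import Cfsg.Agent.RootInv81.Basic
import Cfsg.Agent.S5045

/-!
Root involutions whose classes `E_d` are subgroups without the identity: the classes, the frames
`(d; z, q)` with `z q` of order 3, and the three basic consequences of the hexagon.
-/

set_option autoImplicit false
open Cfsg Cfsg.Agent.RootSubgroups.RootInv

namespace Cfsg.Agent.RootInv81

variable {G : Type*} [Group G] {D : Set G} {a b c d e f g k l m n p q r t u w x y z : G}

/-- A class of root involutions without isolated members, in a group with trivial `O₂`, is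
connected for the odd-order graph. -/
theorem connected_of_pCore [Finite G] (hcl : IsRootInvolutionClass D) (hO : pCore 2 G = ⊥) :
    IsConnectedSet (OddAdj D) D := by
  obtain ⟨hD, -, hconj⟩ := hcl
  obtain ⟨-, hnormal, hp, -, hcomm, -⟩ := Cfsg.Agent.S5045.result hD
  have hbot : Subgroup.closure {w | IsIsolatedElem (OddAdj D) D w} = ⊥ := by
    refine eq_bot_iff.2 ?_
    rw [← hO]
    exact le_sSup ⟨hnormal, hp⟩
  have hpartner : ∀ a ∈ D, ∃ b, OddAdj D a b := by
    intro a ha
    refine exists_partner hD ha fun h => ne_one hD ha ?_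
    have := Subgroup.subset_closure (k := {w | IsIsolatedElem (OddAdj D) D w}) h
    rwa [hbot, SetLike.mem_coe, Subgroup.mem_bot] at this
  have hnt : ∀ a ∈ D, ∃ a' ∈ elemComponentOf (OddAdj D) D a, a' ≠ a := by
    intro a ha
    obtain ⟨b, hb⟩ := hpartner a ha
    exact ⟨b, ⟨hb.2.1, Relation.ReflTransGen.single hb⟩, hb.2.2.1.symm⟩
  intro a ha b hb
  have hlink : ∀ u v : G, ∀ w, Relation.ReflTransGen (OddAdj D) u v →
      Relation.ReflTransGen (OddAdj D) (w * u * w⁻¹) (w * v * w⁻¹) := by
    intro u v w h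
    induction h with
    | refl => exact Relation.ReflTransGen.refl
    | tail _ h2 ih => exact ih.tail (oddAdj_conj hD w h2)
  have hstab : ∀ u ∈ D, ∀ x ∈ elemComponentOf (OddAdj D) D a,
      u * x * u⁻¹ ∈ elemComponentOf (OddAdj D) D a := by
    intro u hu x hx
    refine ⟨hD.conj_mem x hx.1 u, ?_⟩
    by_cases h : Relation.ReflTransGen (OddAdj D) a u
    · refine h.trans ?_
      have := hlink u x u ((linked_symm hD h).trans hx.2)
      rwa [mul_inv_cancel_right] at this
    · have hne : elemComponentOf (OddAdj D) D u ≠ elemComponentOf (OddAdj D) D x := by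
        intro he
        have : x ∈ elemComponentOf (OddAdj D) D u := he.symm ▸ ⟨hx.1, Relation.ReflTransGen.refl⟩
        exact h (hx.2.trans (linked_symm hD this.2))
      have := hcomm u hu x hx.1 (hnt u hu) (hnt x hx.1) hne
      rw [hbot, Subgroup.mem_bot, mul_inv_eq_one] at this
      rw [this]
      exact hx.2
  obtain ⟨w, rfl⟩ := hconj a ha b hb
  have key : ∀ x ∈ elemComponentOf (OddAdj D) D a, w * x * w⁻¹ ∈ elemComponentOf (OddAdj D) D a := by
    have hw : w ∈ Subgroup.closure D := by rw [hD.generates]; trivial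
    clear hb
    induction hw using Subgroup.closure_induction'' with
    | mem v hv => exact hstab v hv
    | inv_mem v hv => rw [inv_eq hD hv]; exact hstab v hv
    | one => exact fun x hx => by simpa using hx
    | mul v v' _ _ h1 h2 =>
      intro x hx
      have := h1 _ (h2 x hx)
      simpa [mul_assoc] using this
  exact (key a ⟨ha, Relation.ReflTransGen.refl⟩).2

/-- The standing hypotheses: a connected set of root involutions whose classes are subgroups
without the identity. -/
structure Setup (D : Set G) : Prop where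
  rset : IsRootInvolutionSet D
  conn : IsConnectedSet (OddAdj D) D
  sub : ∀ d ∈ D, (sameCommutingSubgroup D d : Set G) = sameCommutingClass D d ∪ {1}

theorem cls_self (ha : a ∈ D) : a ∈ sameCommutingClass D a := ⟨ha, rfl⟩

theorem cls_eq (he : e ∈ sameCommutingClass D a) :
    sameCommutingClass D e = sameCommutingClass D a := by
  ext u
  exact ⟨fun h => ⟨h.1, he.2.trans h.2⟩, fun h => ⟨h.1, he.2.symm.trans h.2⟩⟩

theorem cls_symm (he : e ∈ sameCommutingClass D a) (ha : a ∈ D) : a ∈ sameCommutingClass D e :=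
  ⟨ha, he.2.symm⟩

theorem cls_comm_iff (he : e ∈ sameCommutingClass D a) (hu : u ∈ D) :
    u * e = e * u ↔ u * a = a * u := by
  have := Set.ext_iff.1 he.2 u
  simp only [commutingMembers, Set.mem_ofPred_eq, hu, true_and] at this
  exact this.symm

theorem cls_comm (he : e ∈ sameCommutingClass D a) (hf : f ∈ sameCommutingClass D a) :
    e * f = f * e :=
  (cls_comm_iff (e := f) (a := e) ((cls_eq he).symm ▸ hf) he.1).2 rfl

theorem cls_comm_self (he : e ∈ sameCommutingClass D a) (ha : a ∈ D) : e * a = a * e :=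
  cls_comm he (cls_self ha)

section
variable (hD : IsRootInvolutionSet D)
include hD

theorem odd_of_three (hx : x ∈ D) (hy : y ∈ D) (h : orderOf (x * y) = 3) :
    y ∈ oddPartners D x :=
  ⟨hy, fun h' => by rw [h', mul_self hD hx, orderOf_one] at h; omega, h ▸ (by decide : Odd 3)⟩

theorem orderOf_four_of_sq (h : x ^ 2 ∈ D) : orderOf x = 4 := by
  have : Fact (Nat.Prime 2) := ⟨Nat.prime_two⟩
  refine orderOf_eq_prime_pow (p := 2) (n := 1) ?_ ?_
  · rw [pow_one]; exact ne_one hD h
  · rw [show 2 ^ (1 + 1) = 2 * 2 from rfl, pow_mul, pow_two (x ^ 2)]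
    exact mul_self hD h

theorem pp_conj (w : G) (he : e ∈ productPartners D a) :
    MulAut.conj w e ∈ productPartners D (MulAut.conj w a) := by
  obtain ⟨⟨heD, hc, hne⟩, hp⟩ := he
  refine ⟨⟨hD.conj_mem e heD w, by rw [← map_mul, ← map_mul, hc], fun h => hne ?_⟩, ?_⟩
  · exact (MulAut.conj w).injective h
  · rw [← map_mul]; exact hD.conj_mem _ hp w

theorem conj_two (hz : z ∈ D) (hq : q ∈ D) (u : G) :
    MulAut.conj (z * q) u = z * (q * u * q) * z := by
  rw [MulAut.conj_apply, mul_inv_rev, inv_eq hD hz, inv_eq hD hq]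
  simp only [mul_assoc]

theorem four_of_not (ha : a ∈ D) (hb : b ∈ D) (h1 : a * b ≠ b * a) (h2 : b ∉ oddPartners D a) :
    orderOf (a * b) = 4 := by
  rcases trichotomy hD ha hb with h | ⟨hne, ho⟩ | h
  · exact absurd h h1
  · exact absurd ⟨hb, hne.symm, ho⟩ h2
  · exact h

variable (hc : IsConnectedSet (OddAdj D) D)
include hc

theorem mem_cls [Finite G] (ha : a ∈ D) :
    e ∈ sameCommutingClass D a ↔ e ∈ D ∧ oddPartners D e = oddPartners D a :=
  ⟨fun h => ⟨h.1, ((comm_eq_iff_oddPartners_eq hD hc ha h.1).1 h.2).symm⟩,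
    fun h => ⟨h.1, (comm_eq_iff_oddPartners_eq hD hc ha h.1).2 h.2.symm⟩⟩

theorem cls_odd [Finite G] (ha : a ∈ D) (he : e ∈ sameCommutingClass D a) :
    oddPartners D e = oddPartners D a := ((mem_cls hD hc ha).1 he).2

theorem cls_four [Finite G] (ha : a ∈ D) (he : e ∈ sameCommutingClass D a) (hu : u ∈ D)
    (h : orderOf (u * a) = 4) : orderOf (u * e) = 4 := by
  refine four_of_not hD hu he.1 (fun h' => four_ne_comm hD hu ha h ((cls_comm_iff he hu).1 h'))
    fun h' => ?_
  have := oddPartners_symm hD hu h'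
  rw [cls_odd hD hc ha he] at this
  exact oddPartners_not_four hD (oddPartners_symm hD ha this) h

theorem cls_conj [Finite G] (w : G) (ha : a ∈ D) (he : e ∈ sameCommutingClass D a) :
    MulAut.conj w e ∈ sameCommutingClass D (MulAut.conj w a) := by
  refine (mem_cls hD hc (hD.conj_mem a ha w)).2 ⟨hD.conj_mem e he.1 w, ?_⟩
  simp only [MulAut.conj_apply]
  rw [conj_oddPartners hD, conj_oddPartners hD,
    cls_odd hD hc ha he]

theorem cls_conj_image [Finite G] (w : G) (ha : a ∈ D) :
    MulAut.conj w '' sameCommutingClass D a = sameCommutingClass D (MulAut.conj w a) := by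
  refine Set.Subset.antisymm (Set.image_subset_iff.2 fun e he => cls_conj hD hc w ha he) ?_
  intro e he
  refine ⟨(MulAut.conj w).symm e, ?_, MulEquiv.apply_symm_apply _ _⟩
  have h := cls_conj hD hc w⁻¹ (hD.conj_mem a ha w) (MulAut.conj_apply w a ▸ he)
  simpa [MulAut.conj_apply, MulAut.conj_symm_apply, mul_assoc] using h

theorem cls_ncard [Finite G] (ha : a ∈ D) (hb : b ∈ D) :
    (sameCommutingClass D b).ncard = (sameCommutingClass D a).ncard := by
  obtain ⟨w, rfl⟩ := exists_conj hD hc ha hb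
  rw [← MulAut.conj_apply, ← cls_conj_image hD hc w ha,
    Set.ncard_image_of_injective _ (MulAut.conj w).injective]

end

/-- `E(d)` as a set. -/
theorem Setup.mem_sub (S : Setup D) (hd : d ∈ D) :
    e ∈ sameCommutingSubgroup D d ↔ e ∈ sameCommutingClass D d ∨ e = 1 := by
  rw [← SetLike.mem_coe, S.sub d hd, Set.mem_union, Set.mem_singleton_iff]

theorem Setup.cls_mul (S : Setup D) (hd : d ∈ D) (he : e ∈ sameCommutingClass D d)
    (hf : f ∈ sameCommutingClass D d) (hne : e ≠ f) : e * f ∈ sameCommutingClass D d := by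
  have h : e * f ∈ sameCommutingSubgroup D d :=
    mul_mem ((S.mem_sub hd).2 (Or.inl he)) ((S.mem_sub hd).2 (Or.inl hf))
  refine ((S.mem_sub hd).1 h).resolve_right fun h1 => hne ?_
  rw [mul_eq_one_iff_eq_inv] at h1
  rw [h1, inv_eq S.rset hf.1]

theorem Setup.cls_pp (S : Setup D) (hd : d ∈ D) (he : e ∈ sameCommutingClass D d) (hne : e ≠ d) :
    e ∈ productPartners D d :=
  ⟨⟨he.1, cls_comm_self he hd, hne⟩, (S.cls_mul hd he (cls_self hd) hne).1⟩

theorem Setup.sub_ncard [Finite G] (S : Setup D) (hd : d ∈ D) (he : e ∈ D) :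
    (sameCommutingSubgroup D e : Set G).ncard = (sameCommutingClass D d).ncard + 1 := by
  rw [S.sub e he, Set.union_singleton, Set.ncard_insert_of_notMem
    (fun h => ne_one S.rset h.1 rfl) (Set.toFinite _), cls_ncard S.rset S.conn hd he]

/-- A frame at `d`: `z q` of order 3, `d` a product partner of `z` and four to `q`. -/
structure Frame (D : Set G) (d z q : G) : Prop where
  zD : z ∈ D
  qD : q ∈ D
  three : orderOf (z * q) = 3
  pp : d ∈ productPartners D z
  four : orderOf (q * d) = 4

namespace Frame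

variable (hD : IsRootInvolutionSet D) (F : Frame D d z q)
include hD F

omit hD in
theorem dD : d ∈ D := F.pp.1.1

theorem zd : z ∈ productPartners D d := pp_symm hD F.pp F.zD

theorem qA : q ∈ oddPartners D z := odd_of_three hD F.zD F.qD F.three

theorem mD : (q * d) ^ 2 ∈ D := sq_mem_of_four hD F.qD F.pp.1.1 F.four

theorem md : (q * d) ^ 2 ∈ productPartners D d := sq_pp' hD F.qD F.pp.1.1 F.four

theorem mq : (q * d) ^ 2 ∈ productPartners D q := sq_pp hD F.qD F.pp.1.1 F.four

theorem conj_m : z * (q * d) ^ 2 * z = (q * d) ^ 2 * d := by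
  have hd := F.pp.1.1
  have hzd : z * d = d * z := (F.pp.1.2.1).symm
  obtain ⟨k, hk⟩ : ∃ k, k = (q * d) ^ 2 := ⟨_, rfl⟩
  rw [← hk]
  have hk' : k ∈ productPartners D d := hk ▸ F.md hD
  obtain ⟨⟨hkD, hkd, -⟩, hkdD⟩ := id hk'
  have hdz : d * z ∈ D := F.pp.2
  have hqdz : q ∈ oddPartners D (d * z) := by
    rcases profile_odd hD hd (F.zd hD) (F.qA hD) with h | h
    · exact absurd ((orderOf_swap hD F.qD hd).trans F.four) (oddPartners_not_four hD h)
    · exact h
  have hodd : Odd (orderOf (q * (d * z))) := by rw [orderOf_swap hD hdz F.qD]; exact hqdz.2.2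
  have hqdq : q * d * q = k * d := by
    rw [hk, ← four_sq_swap hD F.qD hd F.four]
    exact (four_sq_mul hD hd F.qD ((orderOf_swap hD F.qD hd).trans F.four)).symm
  have hdqd : d * q * d = k * q := hk ▸ (four_sq_mul hD F.qD hd F.four).symm
  have hqzq : q * z * q = z * q * z := by
    have h3 : z * q * z * (q * z * q) = 1 := by
      rw [show z * q * z * (q * z * q) = (z * q) ^ 3 by
        rw [pow_succ, pow_two]; simp only [mul_assoc], ← F.three, pow_orderOf_eq_one]
    rw [← inv_eq_of_mul_eq_one_right h3]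
    rw [mul_inv_rev, mul_inv_rev, inv_eq hD F.zD, inv_eq hD F.qD, mul_assoc]
  have hcube : q * (q * (d * z)) ^ 3 * q = z * k * z * (k * d) := by
    calc q * (q * (d * z)) ^ 3 * q
        = q * (q * (z * d) * (q * (d * z)) * (q * (z * d))) * q := by
          rw [hzd, pow_succ, pow_two]
      _ = (q * q) * z * (d * q * d) * z * q * z * d * q := by simp only [mul_assoc]
      _ = z * k * (q * z * q) * (z * d) * q := by
          rw [mul_self hD F.qD, one_mul, hdqd]; simp only [mul_assoc]
      _ = z * k * z * (q * (z * z) * d * q) := by rw [hqzq]; simp only [mul_assoc]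
      _ = z * k * z * (k * d) := by rw [mul_self hD F.zD, mul_one, hqdq]
  have hk'D : z * k * z ∈ D := conj_mem' hD hkD F.zD
  have hodd' : Odd (orderOf (z * k * z * (k * d))) := by
    rw [← hcube, show q * (q * (d * z)) ^ 3 * q = MulAut.conj q ((q * (d * z)) ^ 3) by
      rw [MulAut.conj_apply, inv_eq hD F.qD], MulEquiv.orderOf_eq]
    exact Odd.of_dvd_nat hodd (orderOf_pow_dvd 3)
  by_contra hne
  have hkdX : k * d ∈ productPartners D d := by
    refine ⟨⟨hkdD, by rw [← mul_assoc, ← hkd], fun h => ne_one hD hkD (mul_eq_right.1 h)⟩, ?_⟩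
    rw [mul_assoc, mul_self hD hd, mul_one]
    exact hkD
  refine profile hD hd hkdX (x := z * k * z)
    ⟨hk'D, hne, by rw [orderOf_swap hD hk'D hkdD]; exact hodd'⟩ ?_
  calc z * k * z * d = z * (k * d) * z := by simp only [mul_assoc, hzd]
    _ = d * (z * k * z) := by rw [hkd]; simp only [← mul_assoc, hzd]

theorem sq_zm : (z * (q * d) ^ 2) ^ 2 = d := by
  have h := F.conj_m hD
  have hm := F.md hD
  calc (z * (q * d) ^ 2) ^ 2 = z * (q * d) ^ 2 * z * (q * d) ^ 2 := by
        rw [pow_two]; simp only [mul_assoc]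
    _ = d := by rw [h, ← hm.1.2.1.symm, mul_assoc, mul_self hD (F.mD hD), mul_one]

theorem four_zm : orderOf (z * (q * d) ^ 2) = 4 :=
  orderOf_four_of_sq hD (by rw [F.sq_zm hD]; exact F.pp.1.1)

theorem conj_d : MulAut.conj (z * q) d = (q * d) ^ 2 := by
  have hd := F.pp.1.1
  rw [conj_two hD F.zD F.qD, ← four_sq_mul hD hd F.qD ((orderOf_swap hD F.qD hd).trans F.four),
    four_sq_swap hD F.qD hd F.four,
    show z * ((q * d) ^ 2 * d) * z = z * (q * d) ^ 2 * z * d by
      simp only [mul_assoc, F.pp.1.2.1], F.conj_m hD, mul_assoc, mul_self hD hd, mul_one]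

theorem conj_sq : MulAut.conj (z * q) ((q * d) ^ 2) = (q * d) ^ 2 * d := by
  rw [conj_two hD F.zD F.qD, ← (F.mq hD).1.2.1, mul_assoc ((q * d) ^ 2), mul_self hD F.qD, mul_one,
    F.conj_m hD]

theorem conj_md : MulAut.conj (z * q) ((q * d) ^ 2 * d) = d := by
  rw [map_mul, F.conj_sq hD, F.conj_d hD, mul_assoc, ← (F.md hD).1.2.1, ← mul_assoc,
    mul_self hD (F.mD hD), one_mul]

end Frame

section
variable (hD : IsRootInvolutionSet D)
include hD

theorem frame_of (hz : z ∈ D) (hq : q ∈ D) (h3 : orderOf (z * q) = 3)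
    (hzd : z ∈ productPartners D d) (hd : d ∈ D) (h4 : orderOf (q * d) = 4) : Frame D d z q :=
  ⟨hz, hq, h3, pp_symm hD hzd hd, h4⟩

variable (hc : IsConnectedSet (OddAdj D) D)
include hc

theorem middle_lemma [Finite G] (hd : d ∈ D) (he : e ∈ productPartners D d)
    (hf : f ∈ productPartners D d) (h4 : orderOf (e * f) = 4) :
    ∃ k, k ∈ productPartners D d ∧ k ∈ productPartners D ((e * f) ^ 2) ∧
      orderOf (e * k) = 4 ∧ (e * k) ^ 2 = d := by
  have heD := he.1.1
  have hfD := hf.1.1
  obtain ⟨c, hcdef⟩ : ∃ c, c = (e * f) ^ 2 := ⟨_, rfl⟩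
  rw [← hcdef]
  have hfe : orderOf (f * e) = 4 := (orderOf_swap hD heD hfD).trans h4
  have hfe2 : (f * e) ^ 2 = c := by rw [four_sq_swap hD heD hfD h4, hcdef]
  have hce : c ∈ productPartners D e := hcdef ▸ sq_pp hD heD hfD h4
  have hcf : c ∈ productPartners D f := hcdef ▸ sq_pp' hD heD hfD h4
  have hcD := hce.1.1
  have hcd : c * d = d * c := by
    rw [hcdef]
    exact (Commute.mul_left (show Commute e d from he.1.2.1) hf.1.2.1).pow_left 2
  have hAne : oddPartners D c ≠ oddPartners D f := fun h =>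
    four_ne_comm hD heD hfD h4
      ((cls_comm_iff ((mem_cls hD hc hfD).2 ⟨hcD, h⟩) heD).1 hce.1.2.1.symm)
  obtain ⟨w, hwc, hwf⟩ := exists_odd_sdiff hD hc hcD hfD hAne
  have hwf4 : orderOf (w * f) = 4 :=
    four_of_not hD hwc.1 hfD (profile hD hfD hcf hwc)
      fun h => hwf (oddPartners_symm hD hwc.1 h)
  obtain ⟨p, hp, hp4, hp2⟩ := four_lift hD hwc.1 (oddPartners_symm hD hcD hwc)
    (pp_symm hD hcf hfD) hwf4
  have hpD := hp.1.1
  have h3 : orderOf (e * p) = 3 := order_three hD hfD heD hcD hpD hfe hfe2 hp4 hp2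
  have hpe : p ∈ oddPartners D e := odd_of_three hD heD hpD h3
  have hfp : f ∈ productPartners D p := hp2 ▸ sq_pp' hD hcD hpD hp4
  have hpd : orderOf (p * d) = 4 := by
    refine four_of_not hD hpD hd (profile hD hd he hpe) fun h => ?_
    exact profile hD hfD (pp_symm hD hf hd) (oddPartners_symm hD hpD h) hfp.1.2.1.symm
  have F : Frame D d e p := frame_of hD heD hpD h3 he hd hpd
  have hpc : orderOf (p * c) = 4 := (orderOf_swap hD hcD hpD).trans hp4
  have hpc2 : (p * c) ^ 2 = f := by rw [four_sq_swap hD hcD hpD hp4, hp2]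
  have F2 : Frame D c e p := frame_of hD heD hpD h3 (pp_symm hD hce heD) hcD hpc
  obtain ⟨k, hk⟩ : ∃ k, k = (p * d) ^ 2 := ⟨_, rfl⟩
  have hkd : k ∈ productPartners D d := hk ▸ F.md hD
  have g1 : MulAut.conj (e * p) c = f := by rw [F2.conj_d hD, hpc2]
  have g2 : MulAut.conj (e * p) (k * d) = d := by rw [hk]; exact F.conj_md hD
  have hckd : c * (k * d) = k * d * c := by
    apply (MulAut.conj (e * p)).injective
    rw [map_mul (MulAut.conj (e * p)) c, map_mul (MulAut.conj (e * p)) (k * d) c, g1, g2, hf.1.2.1]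
  have hck : c * k = k * c := by
    have h1 : Commute c (k * d * d) := Commute.mul_right hckd hcd
    rwa [mul_assoc, mul_self hD hd, mul_one] at h1
  have g3 : MulAut.conj (e * p) k = k * d := by rw [hk]; exact F.conj_sq hD
  have g4 : MulAut.conj (e * p) f = c * f := by
    have := F2.conj_sq hD
    rw [hpc2] at this
    rw [this, hcf.1.2.1]
  refine ⟨k, hkd, ⟨⟨hkd.1.1, hck.symm, fun h => ?_⟩, ?_⟩, ?_, ?_⟩
  · have hfcd : f = c * d := by
      have h' := g3
      rw [h, g1] at h'
      exact h'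
    refine four_ne_comm hD heD hfD h4 ?_
    rw [hfcd]
    exact Commute.mul_right hce.1.2.1.symm he.1.2.1
  · rw [← hck]
    have hx : p * (f * d) * p ∈ D := conj_mem' hD hf.2 hpD
    have hpfp : p * f * p = f := by rw [← hfp.1.2.1, mul_assoc, mul_self hD hpD, mul_one]
    have hpdp : p * d * p = k * d := by
      rw [hk, ← four_sq_swap hD hpD hd hpd]
      exact (four_sq_mul hD hd hpD ((orderOf_swap hD hpD hd).trans hpd)).symm
    have hx2 : f * (k * d) ∈ D := by
      have : p * (f * d) * p = p * f * p * (p * d * p) := by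
        simp only [mul_assoc]; rw [← mul_assoc p p, mul_self hD hpD, one_mul]
      rw [this, hpfp, hpdp] at hx
      exact hx
    have hefe : e * f * e = c * f := by rw [← hfe2]; exact (four_sq_mul hD hfD heD hfe).symm
    have heke : e * k * e = k * d := by rw [hk]; exact F.conj_m hD
    have hede : e * d * e = d := by rw [he.1.2.1, mul_assoc, mul_self hD heD, mul_one]
    have hece : e * c * e = c := by rw [← hce.1.2.1, mul_assoc, mul_self hD heD, mul_one]
    have hconjmul : ∀ u v : G, e * (u * v) * e = e * u * e * (e * v * e) := fun u v => by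
      simp only [mul_assoc]; rw [← mul_assoc e e, mul_self hD heD, one_mul]
    have hx3 : c * f * k ∈ D := by
      have := conj_mem' hD hx2 heD
      rw [hconjmul, hconjmul k d, hefe, heke, hede, mul_assoc k d d, mul_self hD hd, mul_one] at this
      exact this
    have hx4 : c * (k * d) ∈ D := by
      have := hD.conj_mem _ hx3 (e * p)
      rwa [← MulAut.conj_apply, map_mul (MulAut.conj (e * p)), map_mul (MulAut.conj (e * p)), g1, g3, g4, hcf.1.2.1, ← mul_assoc f,
        mul_self hD hfD, one_mul] at this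
    have := conj_mem' hD hx4 heD
    rw [hconjmul, hconjmul k d, hece, heke, hede, mul_assoc k d d, mul_self hD hd, mul_one] at this
    exact this
  · rw [hk]; exact F.four_zm hD
  · rw [hk]; exact F.sq_zm hD

/-- Product partners of `z` and `d` outside `A_q` centralise the middle `(q d)²` of a frame. -/
theorem Frame.comm_middle [Finite G] (F : Frame D d z q) (haz : a ∈ productPartners D z)
    (had : a ∈ productPartners D d) (haq : a ∉ oddPartners D q) :
    a * (q * d) ^ 2 = (q * d) ^ 2 * a := by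
  have hd := F.dD
  have haD := had.1.1
  obtain ⟨m, hm⟩ : ∃ m, m = (q * d) ^ 2 := ⟨_, rfl⟩
  have hmd : m ∈ productPartners D d := hm ▸ F.md hD
  have hmq : m ∈ productPartners D q := hm ▸ F.mq hD
  have hmD := hmd.1.1
  rw [← hm]
  have hqa : orderOf (q * a) = 4 :=
    four_of_not hD F.qD haD (profile hD haD (pp_symm hD haz F.zD) (F.qA hD)) haq
  have Fa : Frame D a z q := ⟨F.zD, F.qD, F.three, haz, hqa⟩
  obtain ⟨n, hn⟩ : ∃ n, n = (q * a) ^ 2 := ⟨_, rfl⟩
  have hna : n ∈ productPartners D a := hn ▸ Fa.md hD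
  have hnm : n ∈ productPartners D m := by
    have h := pp_conj hD (z * q) had
    rwa [Fa.conj_d hD, F.conj_d hD, ← hn, ← hm] at h
  rcases trichotomy hD haD hmD with h | ⟨hne, ho⟩ | h4
  · exact h
  · exact absurd had.1.2.1 (profile hD hd hmd
      (oddPartners_symm hD haD ⟨hmD, hne.symm, ho⟩))
  · exfalso
    have hma : orderOf (m * a) = 4 := (orderOf_swap hD haD hmD).trans h4
    obtain ⟨g, hg⟩ : ∃ g, g = (m * a) ^ 2 := ⟨_, rfl⟩
    have hqaq : q * a * q = n * a := by
      rw [hn, ← four_sq_swap hD F.qD haD hqa]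
      exact (four_sq_mul hD haD F.qD ((orderOf_swap hD F.qD haD).trans hqa)).symm
    have hqmq : q * m * q = m := by
      rw [← hmq.1.2.1, mul_assoc, mul_self hD F.qD, mul_one]
    have hnn : n * n = 1 := mul_self hD hna.1.1
    have hqgq : MulAut.conj q g = g := by
      have h1 : MulAut.conj q a = n * a := by rw [MulAut.conj_apply, inv_eq hD F.qD, hqaq]
      have h2 : MulAut.conj q m = m := by rw [MulAut.conj_apply, inv_eq hD F.qD, hqmq]
      have c1 : Commute n (m * a) :=
        Commute.mul_right (show Commute n m from hnm.1.2.1) hna.1.2.1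
      rw [hg, map_pow, map_mul, h1, h2, ← mul_assoc, ← (show Commute n m from hnm.1.2.1).eq,
        mul_assoc, c1.mul_pow, pow_two n, hnn, one_mul]
    have hqg : q * g = g * q := by
      rwa [MulAut.conj_apply, mul_inv_eq_iff_eq_mul] at hqgq
    obtain ⟨k, -, hkg, hk4, hk2⟩ := middle_lemma hD hc hd hmd had hma
    have hdq : orderOf (d * q) = 4 := (orderOf_swap hD F.qD hd).trans F.four
    have h3 : orderOf (k * q) = 3 := order_three hD hmD hkg.1.1 hd F.qD hk4 hk2 hdq
      (by rw [four_sq_swap hD F.qD hd F.four, hm])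
    rw [← hg] at hkg
    exact profile hD (hg ▸ sq_mem_of_four hD hmD haD hma) hkg
      (odd_of_three hD hkg.1.1 F.qD h3) hqg

/-- No member `f` centralising `d` and `k` makes a four pair with an isolated `e` whose middle is
four to `k` with square `d`. -/
theorem no_middle [Finite G] (hd : d ∈ D) (he : e ∈ D)
    (hIso : ∀ x ∈ oddPartners D e, x * d ≠ d * x) (hf : f ∈ D) (hfd : f * d = d * f)
    (h4 : orderOf (e * f) = 4) (hz : z = (e * f) ^ 2) (hk : k ∈ D)
    (hzk : orderOf (z * k) = 4) (hzk2 : (z * k) ^ 2 = d) (hfk : f * k = k * f) : False := by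
  have hzf : z ∈ productPartners D f := hz ▸ sq_pp' hD he hf h4
  have hzD := hzf.1.1
  have hdz : d ∈ productPartners D z := hzk2 ▸ sq_pp hD hzD hk hzk
  have hdk : d ∈ productPartners D k := hzk2 ▸ sq_pp' hD hzD hk hzk
  have hAne : oddPartners D d ≠ oddPartners D k := fun h =>
    four_ne_comm hD hzD hk hzk
      ((cls_comm_iff ((mem_cls hD hc hk).2 ⟨hd, h⟩) hzD).1 hdz.1.2.1.symm)
  obtain ⟨w, hwd, hwk⟩ := exists_odd_sdiff hD hc hd hk hAne
  have hwk4 : orderOf (w * k) = 4 :=
    four_of_not hD hwd.1 hk (profile hD hk hdk hwd) fun h => hwk (oddPartners_symm hD hwd.1 h)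
  obtain ⟨q, hq, hq4, hq2⟩ := four_lift hD hwd.1 (oddPartners_symm hD hd hwd)
    (pp_symm hD hdk hk) hwk4
  have hqD := hq.1.1
  have hkz : orderOf (k * z) = 4 := (orderOf_swap hD hzD hk).trans hzk
  have h3 : orderOf (z * q) = 3 := order_three hD hk hzD hd hqD hkz
    (by rw [four_sq_swap hD hzD hk hzk, hzk2]) hq4 hq2
  have hqd : orderOf (q * d) = 4 := (orderOf_swap hD hd hqD).trans hq4
  have hqd2 : (q * d) ^ 2 = k := by rw [four_sq_swap hD hd hqD hq4, hq2]
  have hqA : q ∈ oddPartners D z := odd_of_three hD hzD hqD h3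
  have hqf : orderOf (q * f) = 4 := by
    refine four_of_not hD hqD hf (profile hD hf hzf hqA) fun h => ?_
    exact profile hD hk (pp_symm hD (hq2 ▸ sq_pp' hD hd hqD hq4) hqD) h hfk
  have F : Frame D d z q := ⟨hzD, hqD, h3, hdz, hqd⟩
  have Ff : Frame D f z q := ⟨hzD, hqD, h3, pp_symm hD hzf hf, hqf⟩
  obtain ⟨n, hn⟩ : ∃ n, n = (q * f) ^ 2 := ⟨_, rfl⟩
  have hfe : orderOf (f * e) = 4 := (orderOf_swap hD he hf).trans h4
  have hen : orderOf (e * n) = 3 := order_three hD hf he hzD (hn ▸ Ff.mD hD) hfe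
    (by rw [four_sq_swap hD he hf h4, hz]) (hn ▸ Ff.four_zm hD) (hn ▸ Ff.sq_zm hD)
  refine hIso n (odd_of_three hD he (hn ▸ Ff.mD hD) hen) ?_
  have g1 : MulAut.conj (z * q) f = n := by rw [Ff.conj_d hD, hn]
  have g2 : MulAut.conj (z * q) (k * d) = d := by rw [← hqd2]; exact F.conj_md hD
  have hfkd : f * (k * d) = k * d * f := (Commute.mul_right hfk hfd).eq
  rw [← g1]
  conv_lhs => rw [← g2]
  conv_rhs => rw [← g2]
  rw [← map_mul (MulAut.conj (z * q)) f, ← map_mul (MulAut.conj (z * q)) (k * d) f, hfkd]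

end

end Cfsg.Agent.RootInv81
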