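import Cfsg.Agent.RootInv81.Isolated

/-!
Every middle of an isolated member and a linked member lies in `E_d`: descending induction along the
lower central series of the 2-group generated by the isolated members.
-/

set_option autoImplicit false
open Cfsg Cfsg.Agent.RootSubgroups.RootInv

namespace Cfsg.Agent.RootInv81

variable {G : Type*} [Group G] {D : Set G} {a b c d e f g k l m n p q r s t u v w x y z σ : G} {i : ℕ}

/-- The lower central series of the group generated by the isolated members at `d`. -/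
def depth (D : Set G) (d : G) (i : ℕ) : Subgroup G :=
  (Subgroup.closure (isoSet D d)).lowerCentralSeries i

/-- Middles of isolated and linked members, one of them of depth `i`, lie in `E_d`. -/
def GoodLevel (D : Set G) (d : G) (i : ℕ) : Prop :=
  ∀ x ∈ isoSet D d, ∀ y ∈ linkSet D d, (x ∈ depth D d i ∨ y ∈ depth D d i) →
    orderOf (x * y) = 4 → (x * y) ^ 2 ∈ sameCommutingClass D d

theorem depth_cls (he : e ∈ sameCommutingClass D d) : depth D e i = depth D d i := by
  rw [depth, depth, iso_cls_eq he]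

theorem good_cls (he : e ∈ sameCommutingClass D d) (h : GoodLevel D d i) : GoodLevel D e i := by
  intro x hx y hy
  rw [iso_cls_eq he] at hx
  rw [link_cls_eq he] at hy
  rw [depth_cls he, cls_eq he]
  exact h x hx y hy

theorem iso_mem_gen (hx : x ∈ isoSet D d) : x ∈ Subgroup.closure (isoSet D d) :=
  Subgroup.subset_closure hx

theorem depth_succ_le : depth D d (i + 1) ≤ depth D d i :=
  (Subgroup.closure (isoSet D d)).lowerCentralSeries_antitone (Nat.le_succ i)

section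
variable (hD : IsRootInvolutionSet D)
include hD

theorem middle_depth (hx : x ∈ isoSet D d) (hy : y ∈ isoSet D d) (h4 : orderOf (x * y) = 4)
    (hi : x ∈ depth D d i ∨ y ∈ depth D d i) : (x * y) ^ 2 ∈ depth D d (i + 1) :=
  middle_lcs hD hx.1 hy.1 (iso_mem_gen hx) (iso_mem_gen hy) h4 hi

theorem sq_depth (hx : x ∈ isoSet D d) (hy : y ∈ isoSet D d) (hi : x ∈ depth D d i) :
    (x * y) ^ 2 ∈ depth D d (i + 1) := by
  by_cases h : x * y = y * x
  · rw [sq_of_comm hD hx.1 hy.1 h]; exact one_mem _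
  · exact middle_depth hD hx hy (iso_four hD hx hy h) (Or.inl hi)

theorem link_conj (w : G) (hw : MulAut.conj w d = d) (hd : d ∈ D) [Finite G]
    (hc : IsConnectedSet (OddAdj D) D) (hy : y ∈ linkSet D d) :
    MulAut.conj w y ∈ linkSet D d := by
  obtain ⟨s, hs, hy⟩ := hy
  exact ⟨MulAut.conj w s, hw ▸ cls_conj hD hc w hd hs, pp_conj hD w hy⟩

theorem iso_of_cls [Finite G] (hc : IsConnectedSet (OddAdj D) D) (hd : d ∈ D)
    (hx : x ∈ isoSet D d) (he : e ∈ sameCommutingClass D x) : e ∈ isoSet D d := by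
  refine ⟨he.1, ((cls_comm_iff he hd).2 hx.2.1.symm).symm, ?_⟩
  rw [cls_odd hD hc hx.1 he]
  exact hx.2.2

theorem conj_sq_eq (hs : s * s = 1) : ∀ {u v : G}, (s * u * s * (s * v * s)) ^ 2 = s * (u * v) ^ 2 * s := by
  intro u v
  have : s * u * s * (s * v * s) = s * (u * v) * s := by
    simp only [mul_assoc]; rw [← mul_assoc s s, hs, one_mul]
  rw [this, pow_two, pow_two]
  simp only [mul_assoc]
  rw [← mul_assoc s s, hs, one_mul]

end

namespace Setup

variable [Finite G] (S : Setup D)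
include S

theorem exists_root (hb : b ∈ productPartners D d) (hd : d ∈ D)
    (hbE : b ∉ sameCommutingClass D d) :
    ∃ l ∈ productPartners D d, orderOf (b * l) = 4 ∧ (b * l) ^ 2 = d := by
  have hD := S.rset
  obtain ⟨w, hwb, hwd⟩ := exists_odd_sdiff hD S.conn hb.1.1 hd fun h =>
    hbE ((mem_cls hD S.conn hd).2 ⟨hb.1.1, h⟩)
  have hwd4 : orderOf (w * d) = 4 :=
    four_of_not hD hwb.1 hd (profile hD hd hb hwb) fun h => hwd (oddPartners_symm hD hwb.1 h)
  obtain ⟨l, hl, hl4, hl2⟩ := four_lift hD hwb.1 (oddPartners_symm hD hb.1.1 hwb)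
    (pp_symm hD hb hd) hwd4
  exact ⟨l, pp_symm hD (hl2 ▸ sq_pp' hD hb.1.1 hl.1.1 hl4) hl.1.1, hl4, hl2⟩

theorem top_twist (hd : d ∈ D) (h : IsTopMem D d v) (ht : t ∈ sameCommutingClass D d) :
    IsTopMem D d (v * t) := by
  have hD := S.rset
  have hvt := (S.top_frame ht.1 (top_cls ht h)).1
  have hz : v * t ∈ productPartners D t := by
    refine ⟨⟨hvt.2, ?_, fun h' => ne_one hD hvt.1.1 (mul_eq_right.1 h')⟩, ?_⟩
    · rw [← mul_assoc, ← hvt.1.2.1]
    · rw [mul_assoc, mul_self hD ht.1, mul_one]; exact hvt.1.1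
  refine ⟨iso_cls_eq ht ▸ pp_iso hD ht.1 hz, fun h' => ?_, fun y hy h4 => ?_⟩
  · have := S.cls_mul hd h' ht hz.1.2.2
    rw [mul_assoc, mul_self hD ht.1, mul_one] at this
    exact h.2.1 this
  · have hyI := link_iso hD hy
    have hyt : Commute y t := (cls_comm_iff ht hyI.1).2 hyI.2.1
    have hvtc : Commute v t := hvt.1.2.1
    have heq : (v * t * y) ^ 2 = (v * y) ^ 2 := by
      rw [mul_assoc, ← hyt.eq, ← mul_assoc, (hvtc.mul_left hyt).mul_pow, pow_two t,
        mul_self hD ht.1, mul_one]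
    rw [heq]
    exact h.2.2 y hy (orderOf_four_of_sq hD (heq ▸ sq_mem_of_four hD hz.1.1 hyI.1 h4))

theorem top_of_good (hi : GoodLevel D d (i + 1)) (hv : v ∈ isoSet D d)
    (hvl : v ∈ depth D d (i + 1)) (hvE : v ∉ sameCommutingClass D d) : IsTopMem D d v :=
  ⟨hv, hvE, fun y hy h4 => hi v hv y hy (Or.inl hvl) h4⟩

theorem top_link (hd : d ∈ D) (h : IsTopMem D d v) : v ∈ linkSet D d :=
  pp_link hd (S.top_frame hd h).1

/-- A square of a deep isolated member and an isolated member, one of them linked, lies in `E(d)`. -/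
theorem sq_sub (hd : d ∈ D) (hi : GoodLevel D d (i + 1)) (hx : x ∈ isoSet D d)
    (hy : y ∈ isoSet D d) (hxl : x ∈ depth D d (i + 1))
    (hl : x ∈ linkSet D d ∨ y ∈ linkSet D d) : (x * y) ^ 2 ∈ sameCommutingSubgroup D d := by
  have hD := S.rset
  by_cases h : x * y = y * x
  · rw [sq_of_comm hD hx.1 hy.1 h]; exact one_mem _
  have h4 := iso_four hD hx hy h
  refine (S.mem_sub hd).2 (Or.inl ?_)
  rcases hl with hl | hl
  · rw [← four_sq_swap hD hx.1 hy.1 h4]
    exact hi y hy x hl (Or.inr hxl) ((orderOf_swap hD hx.1 hy.1).trans h4)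
  · exact hi x hx y hl (Or.inl hxl) h4

theorem sub_comm (hd : d ∈ D) (he : e ∈ sameCommutingSubgroup D d) (hx : x ∈ isoSet D d) :
    Commute e x := by
  rcases (S.mem_sub hd).1 he with h | rfl
  · exact ((cls_comm_iff h hx.1).2 hx.2.1).symm
  · exact Commute.one_left x

/-- Too many members for the middles to differ. -/
theorem collision (hd : d ∈ D) (hb : b ∈ D) (F : G → G)
    (hF : ∀ s ∈ sameCommutingSubgroup D b, F s ∈ sameCommutingClass D d) :
    ∃ s1 ∈ sameCommutingSubgroup D b, ∃ s2 ∈ sameCommutingSubgroup D b,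
      s1 * s2 ∈ sameCommutingClass D b ∧ F s1 = F s2 ∧ s1 * s2 = s2 * s1 := by
  have hD := S.rset
  obtain ⟨s1, hs1, s2, hs2, hne, heq⟩ := Set.exists_ne_map_eq_of_ncard_lt_of_maps_to
    (s := (sameCommutingSubgroup D b : Set G)) (t := sameCommutingClass D d)
    (by rw [S.sub_ncard hd hb]; omega) hF (Set.toFinite _)
  have hcomm : s1 * s2 = s2 * s1 := by
    rcases (S.mem_sub hb).1 hs1 with h1 | rfl
    · rcases (S.mem_sub hb).1 hs2 with h2 | rfl
      · exact cls_comm h1 h2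
      · rw [mul_one, one_mul]
    · rw [mul_one, one_mul]
  have hs11 : s1 * s1 = 1 := by
    rcases (S.mem_sub hb).1 hs1 with h1 | rfl
    · exact mul_self hD h1.1
    · exact one_mul 1
  refine ⟨s1, hs1, s2, hs2, ((S.mem_sub hb).1 (mul_mem hs1 hs2)).resolve_right fun h => hne ?_,
    heq, hcomm⟩
  calc s1 = s1 * (s1 * s2) := by rw [h, mul_one]
    _ = s2 := by rw [← mul_assoc, hs11, one_mul]

theorem sub_facts (hx : x ∈ D) (hs : s ∈ sameCommutingSubgroup D x) :
    s * s = 1 ∧ ∀ u ∈ D, u * x = x * u → Commute s u := by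
  rcases (S.mem_sub hx).1 hs with h | rfl
  · exact ⟨mul_self S.rset h.1, fun u hu hc => ((cls_comm_iff h hu).2 hc).symm⟩
  · exact ⟨one_mul 1, fun u _ _ => Commute.one_left u⟩

theorem full_of_good (hd : d ∈ D) (hi : GoodLevel D d (i + 1))
    (hb : b ∈ productPartners D d) (hbE : b ∉ sameCommutingClass D d) (hbl : b ∈ depth D d i) :
    ∀ t ∈ sameCommutingClass D d, b ∈ productPartners D t := by
  have hD := S.rset
  obtain ⟨k0, hk0, hk04, hk02⟩ := S.exists_root hb hd hbE
  obtain ⟨k, ⟨hkD, hk4, hk2⟩, hmax⟩ := Set.exists_max_image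
    {k | k ∈ D ∧ orderOf (b * k) = 4 ∧ (b * k) ^ 2 = d}
    (fun k => {y | y ∈ isoSet D d ∧ y * k = k * y}.ncard) (Set.toFinite _)
    ⟨k0, hk0.1.1, hk04, hk02⟩
  intro t ht
  by_contra hbt
  have hbD := hb.1.1
  have hbI := pp_iso hD hd hb
  have hkd : k ∈ productPartners D d := pp_symm hD (hk2 ▸ sq_pp' hD hbD hkD hk4) hkD
  have hkI := pp_iso hD hd hkd
  obtain ⟨q, F, hqk⟩ := exists_frame hD S.conn hbD hkD hk4 hk2
  have hqD := F.qD
  obtain ⟨hβk, hβt⟩ := F.image_cls hD S.conn ht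
  obtain ⟨β, hβ⟩ : ∃ β, β = MulAut.conj (b * q) t := ⟨_, rfl⟩
  rw [← hβ, hqk] at hβk
  rw [← hβ] at hβt
  have hβY : β ∈ linkSet D d := ⟨t, ht, hβt⟩
  have hβI := link_iso hD hβY
  have hbβ : orderOf (b * β) = 4 := iso_four hD hbI hβI fun h =>
    four_ne_comm hD hbD hkD hk4 ((cls_comm_iff hβk hbD).1 h)
  obtain ⟨v, hv⟩ : ∃ v, v = (b * β) ^ 2 := ⟨_, rfl⟩
  have hvI : v ∈ isoSet D d := hv ▸ iso_middle hD hbI hβI hbβ
  have hvl : v ∈ depth D d (i + 1) := hv ▸ middle_depth hD hbI hβI hbβ (Or.inl hbl)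
  have hvb : v ∈ productPartners D b := hv ▸ sq_pp hD hbD hβI.1 hbβ
  have htD := ht.1
  obtain ⟨α, hα⟩ : ∃ α, α = q * t * q := ⟨_, rfl⟩
  have hαD : α ∈ D := hα ▸ conj_mem' hD htD hqD
  have hβα : β = b * α * b := by rw [hβ, conj_two hD hbD hqD, hα]
  have hvα : v = α * β := by
    rw [hv, hβα, pow_two, show b * (b * α * b) = α * b by
      rw [← mul_assoc, ← mul_assoc, mul_self hD hbD, one_mul]]
    simp only [mul_assoc]
  have hαβ : Commute α β :=
    comm_of_sq hD hαD hβI.1 (by rw [← hvα, pow_two, mul_self hD hvI.1])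
  have hqβ : Commute q β := by
    refine (cls_comm_iff hβk hqD).2 ?_
    rw [← hqk]; exact (F.mq hD).1.2.1.symm
  have hαt : Commute α t := by
    refine comm_of_sq hD hαD htD ?_
    have h4 := cls_four hD S.conn hd ht hqD F.four
    rw [show α * t = (q * t) ^ 2 by rw [hα, pow_two]; simp only [mul_assoc], pow_two]
    exact mul_self hD (sq_mem_of_four hD hqD htD h4)
  have hqvt : q * (v * t) = v * t * q := by
    have h1 : q * α * q = t := by
      rw [hα]; simp only [mul_assoc]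
      rw [mul_self hD hqD, mul_one, ← mul_assoc, mul_self hD hqD, one_mul]
    have h2 : q * t * q = α := hα.symm
    have h3 : q * (v * t) * q = v * t := by
      calc q * (v * t) * q = q * α * (β * t) * q := by rw [hvα]; simp only [mul_assoc]
        _ = q * α * q * (β * (q * t * q)) := by
            rw [mul_assoc (q * α), mul_assoc (q * α), ← mul_assoc q β, hqβ.eq]
            simp only [mul_assoc]
            rw [← mul_assoc q q (t * q), mul_self hD hqD, one_mul]
        _ = t * (β * α) := by rw [h1, h2]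
        _ = v * t := by
            rw [hvα, ← hαβ.eq]
            exact (Commute.mul_right hαt.symm (show Commute t β from hβt.1.2.1.symm)).eq
    conv_rhs => rw [← h3]
    rw [mul_assoc _ q q, mul_self hD hqD, mul_one]
  have hvE : v ∉ sameCommutingClass D d := by
    intro h
    rcases eq_or_ne v t with hvt | hvt
    · exact hbt (pp_symm hD (hvt ▸ hvb) hbD)
    · exact four_ne_comm hD hqD hd F.four ((cls_comm_iff (S.cls_mul hd h ht hvt) hqD).1 hqvt)
  have hTv := S.top_of_good hi hvI hvl hvE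
  obtain ⟨ζ, hζ⟩ : ∃ ζ, ζ = v * t := ⟨_, rfl⟩
  have hTζ : IsTopMem D d ζ := hζ ▸ S.top_twist hd hTv ht
  have hζD := hTζ.1.1
  have hbζ : b * ζ = ζ * b := by
    rw [hζ]
    exact (Commute.mul_right hvb.1.2.1.symm ((cls_comm_iff ht hbD).2 hb.1.2.1)).eq
  have hqζ : q * ζ = ζ * q := hζ ▸ hqvt
  have hincl : ∀ y ∈ isoSet D d, y * k = k * y → y * ζ = ζ * y := by
    intro y hy hyk
    by_contra hne
    have hyt : Commute y t := (cls_comm_iff ht hy.1).2 hy.2.1
    have hyv : v * y ≠ y * v := fun h =>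
      hne (hζ ▸ (Commute.mul_right (show Commute y v from h.symm) hyt).eq)
    have h4 := iso_four hD hvI hy hyv
    have he : (v * y) ^ 2 ∈ sameCommutingClass D d := by
      rw [← four_sq_swap hD hvI.1 hy.1 h4]
      exact hi y hy v (S.top_link hd hTv) (Or.inr hvl) ((orderOf_swap hD hvI.1 hy.1).trans h4)
    have hyβ : y * β = β * y := (cls_comm_iff hβk hy.1).2 hyk
    exact no_middle hD S.conn he.1 hbD (iso_cls_eq he ▸ hbI).2.2 hβI.1
      ((cls_comm_iff he hβI.1).2 hβI.2.1) hbβ hv hy.1 h4 rfl hyβ.symm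
  obtain ⟨-, q', F'⟩ := S.top_frame hd hTζ
  obtain ⟨μ, hμ⟩ : ∃ μ, μ = (q' * d) ^ 2 := ⟨_, rfl⟩
  have hμd : μ ∈ productPartners D d := hμ ▸ F'.md hD
  have hμk : μ * k ≠ k * μ := fun h =>
    four_ne_comm hD hζD hμd.1.1 (hμ ▸ F'.four_zm hD) (hincl μ (pp_iso hD hd hμd) h).symm
  have hkζ : k * ζ = ζ * k := hincl k hkI rfl
  have hspread := S.top_spread hd hTζ
  have hprod : ∀ s ∈ sameCommutingSubgroup D ζ, k * s ∈ D ∧ k * s * d ∈ D := by
    intro s hs
    rcases (S.mem_sub hζD).1 hs with hs | rfl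
    · have hsd := hspread s hs d (cls_self hd)
      have hsD := hs.1
      have hbs : b * s = s * b := (cls_comm_iff hs hbD).2 hbζ
      have hqs : q * s = s * q := (cls_comm_iff hs hqD).2 hqζ
      have hks : k * s = s * k := (cls_comm_iff hs hkD).2 hkζ
      have g1 : MulAut.conj (b * q) s = s := by
        rw [MulAut.conj_apply, show b * q * s = s * (b * q) by
          rw [mul_assoc, hqs, ← mul_assoc, hbs, mul_assoc], mul_inv_cancel_right]
      have g2 : k * s ∈ D := by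
        rw [hks, ← g1, ← hqk, ← F.conj_d hD, ← map_mul]
        exact hD.conj_mem _ hsd.2 (b * q)
      refine ⟨g2, ?_⟩
      have := hD.conj_mem _ g2 (b * q)
      rw [← MulAut.conj_apply, map_mul, g1, ← hqk, F.conj_sq hD, hqk, mul_assoc,
        ← hsd.1.2.1, ← mul_assoc] at this
      exact this
    · simp only [mul_one]
      exact ⟨hkD, hkd.2⟩
  have hk' : ∀ s ∈ sameCommutingSubgroup D ζ,
      k * s ∈ productPartners D d ∧ k * s ∈ oddPartners D q' := by
    intro s hs
    obtain ⟨hksD, hksd⟩ := hprod s hs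
    obtain ⟨hss, hsc⟩ := S.sub_facts hζD hs
    have hsk : Commute s k := hsc k hkD hkζ
    have hsd : Commute s d := hsc d hd (hTζ.1.2.1.symm)
    have hsb : Commute s b := hsc b hbD hbζ
    have hksd' : k * s ∈ productPartners D d := by
      refine ⟨⟨hksD, (Commute.mul_left hkd.1.2.1 hsd).eq, fun h => ne_one hD hksd ?_⟩, hksd⟩
      rw [h, mul_self hD hd]
    refine ⟨hksd', ?_⟩
    have hksζ : k * s ∈ productPartners D ζ := by
      have hζs : ζ ∈ sameCommutingSubgroup D ζ := (S.mem_sub hζD).2 (Or.inl (cls_self hζD))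
      have h2 : k * s * ζ ∈ D := by
        rw [mul_assoc]; exact (hprod _ (mul_mem hs hζs)).1
      refine ⟨⟨hksD, (Commute.mul_left hkζ (hsc ζ hζD rfl)).eq, fun h => ne_one hD h2 ?_⟩, h2⟩
      rw [h, mul_self hD hζD]
    have hpow : (b * (k * s)) ^ 2 = d := by
      rw [← mul_assoc, (Commute.mul_left hsb.symm hsk.symm).mul_pow, hk2, pow_two, hss, mul_one]
    by_contra hno
    have hcm := F'.comm_middle hD S.conn hksζ hksd' hno
    rw [← hμ] at hcm
    have hle := hmax (k * s) ⟨hksD, orderOf_four_of_sq hD (hpow ▸ hd), hpow⟩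
    refine absurd hle (Nat.not_le.2 (Set.ncard_lt_ncard ?_ (Set.toFinite _)))
    refine ⟨fun y ⟨hy, hyk⟩ => ⟨hy, (Commute.mul_right hyk (hsc y hy.1 (hincl y hy hyk)).symm).eq⟩,
      fun hsub => hμk (hsub ⟨pp_iso hD hd hμd, hcm.symm⟩).2⟩
  have hlift : ∀ s ∈ sameCommutingSubgroup D ζ, ∃ l, l ∈ productPartners D q' ∧
      orderOf (k * s * l) = 4 ∧ (k * s * l) ^ 2 = d ∧ orderOf (ζ * l) = 4 ∧
        (ζ * l) ^ 2 ∈ sameCommutingClass D d := by
    intro s hs
    obtain ⟨h1, h2⟩ := hk' s hs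
    obtain ⟨l, hl, hl4, hl2⟩ := four_lift hD F'.qD h2 (pp_symm hD h1 hd) F'.four
    have hld : l ∈ productPartners D d := pp_symm hD (hl2 ▸ sq_pp' hD h1.1.1 hl.1.1 hl4) hl.1.1
    have hζl : orderOf (ζ * l) = 4 := iso_four hD hTζ.1 (pp_iso hD hd hld)
      (profile hD hl.1.1 (pp_symm hD hl F'.qD) (oddPartners_symm hD hζD (F'.qA hD)))
    exact ⟨l, hl, hl4, hl2, hζl, hTζ.2.2 l (pp_link hd hld) hζl⟩
  choose! L hL using hlift
  obtain ⟨s1, hs1, s2, hs2, hσ, heq, hcomm⟩ := S.collision hd hζD (fun s => (ζ * L s) ^ 2)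
    fun s hs => (hL s hs).2.2.2.2
  obtain ⟨hl1, h14, h12, h15, -⟩ := hL s1 hs1
  obtain ⟨hl2, h24, h22, h25, -⟩ := hL s2 hs2
  have hLeq : L s1 = L s2 := four_injective hD F'.qD
    (oddPartners_symm hD hζD (F'.qA hD)) hl1 hl2 h15 h25 heq
  rw [← hLeq] at h22 h24
  obtain ⟨l, hl⟩ : ∃ l, l = L s1 := ⟨_, rfl⟩
  rw [← hl] at hl1 h12 h22
  have hσl : s1 * s2 * l = l * (s1 * s2) := by
    obtain ⟨hs11, hs1c⟩ := S.sub_facts hζD hs1
    obtain ⟨hs22, hs2c⟩ := S.sub_facts hζD hs2
    have h3 : k * s1 * l * (k * s1) = k * s2 * l * (k * s2) := by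
      refine mul_right_cancel (b := l) ?_
      have e1 : ∀ u : G, u * l * u * l = (u * l) ^ 2 := fun u => by
        rw [pow_two]; simp only [mul_assoc]
      rw [e1, e1, h12, h22]
    have hk1 : (k * s2) * (k * s1) = s1 * s2 := by
      rw [mul_assoc, ← mul_assoc s2, (hs2c k hkD hkζ).eq, ← mul_assoc, ← mul_assoc,
        mul_self hD hkD, one_mul, hcomm]
    have hkk : ∀ {s}, s * s = 1 → Commute s k → k * s * (k * s) = 1 := fun {s} h hc => by
      rw [← pow_two, (hc.symm).mul_pow, pow_two, pow_two, mul_self hD hkD, h, one_mul]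
    rw [← hk1]
    calc k * s2 * (k * s1) * l
        = k * s2 * (k * s1 * l * (k * s1)) * (k * s1) := by
          simp only [mul_assoc]
          rw [show k * (s1 * (k * s1)) = 1 by
            rw [← mul_assoc]; exact hkk hs11 (hs1c k hkD hkζ), mul_one]
      _ = k * s2 * (k * s2) * l * (k * s2) * (k * s1) := by rw [h3]; simp only [mul_assoc]
      _ = l * (k * s2 * (k * s1)) := by
          rw [hkk hs22 (hs2c k hkD hkζ), one_mul, mul_assoc]
  refine profile hD hl1.1.1 (pp_symm hD hl1 F'.qD) ?_ hσl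
  refine oddPartners_symm hD hσ.1 ?_
  rw [cls_odd hD S.conn hζD hσ]
  exact F'.qA hD

/-- In a bad configuration `w` is odd to the frame. -/
theorem bad_w_odd (hd : d ∈ D) (hb : b ∈ isoSet D d) (hw : w ∈ productPartners D d)
    (h4 : orderOf (b * w) = 4) (hc : (b * w) ^ 2 = c) (F : Frame D d c q) :
    w ∈ oddPartners D q ∧ w * (q * d) ^ 2 ≠ (q * d) ^ 2 * w := by
  have hD := S.rset
  have hwD := hw.1.1
  have key : w * (q * d) ^ 2 ≠ (q * d) ^ 2 * w := fun h =>
    no_middle hD S.conn hd hb.1 hb.2.2 hwD hw.1.2.1 h4 hc.symm (F.mD hD) (F.four_zm hD)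
      (F.sq_zm hD) h
  refine ⟨?_, key⟩
  by_contra h
  exact key (F.comm_middle hD S.conn (pp_symm hD (hc ▸ sq_pp' hD hb.1 hwD h4) hwD) hw h)

/-- In a bad configuration the isolated member is odd to the frame. -/
theorem bad_b_odd (hd : d ∈ D) (hb : b ∈ isoSet D d) (hw : w ∈ productPartners D d)
    (h4 : orderOf (b * w) = 4) (hc : (b * w) ^ 2 = c) (hT : IsTopMem D d c) (F : Frame D d c q) :
    b ∈ oddPartners D q := by
  have hD := S.rset
  by_contra hbq
  have hbD := hb.1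
  have hwD := hw.1.1
  have hcb : c ∈ productPartners D b := hc ▸ sq_pp hD hbD hwD h4
  have hlift : ∀ s ∈ sameCommutingSubgroup D b, ∃ l, l ∈ productPartners D q ∧
      l ∈ isoSet D d ∧ orderOf (s * w * s * l) = 4 ∧ (s * w * s * l) ^ 2 = d ∧
      orderOf (c * l) = 4 ∧ (c * l) ^ 2 ∈ sameCommutingClass D d ∧
      orderOf (b * (s * w * s)) = 4 ∧ (b * (s * w * s)) ^ 2 = c ∧
      s * w * s ∈ productPartners D d := by
    intro s hs
    obtain ⟨hss, hsc⟩ := S.sub_facts hbD hs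
    have hinv : s⁻¹ = s := inv_eq_of_mul_eq_one_right hss
    have hconj : ∀ u, MulAut.conj s u = s * u * s := fun u => by rw [MulAut.conj_apply, hinv]
    have hfix : ∀ u ∈ D, u * b = b * u → MulAut.conj s u = u := fun u hu h =>
      conj_eq_of_comm (hsc u hu h).eq
    have had : s * w * s ∈ productPartners D d := by
      have := pp_conj hD s hw
      rwa [hfix d hd hb.2.1.symm, hconj] at this
    have hmid : (b * (s * w * s)) ^ 2 = c := by
      rw [← hconj]
      nth_rewrite 1 [← hfix b hbD rfl]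
      rw [← map_mul, ← map_pow, hc, hfix c hcb.1.1 hcb.1.2.1]
    have h4' : orderOf (b * (s * w * s)) = 4 := orderOf_four_of_sq hD (hmid ▸ hcb.1.1)
    obtain ⟨haq, -⟩ := S.bad_w_odd hd hb had h4' hmid F
    obtain ⟨l, hl, hl4, hl2⟩ := four_lift hD F.qD haq (pp_symm hD had hd) F.four
    have hld : l ∈ productPartners D d := pp_symm hD (hl2 ▸ sq_pp' hD had.1.1 hl.1.1 hl4) hl.1.1
    have hlI := pp_iso hD hd hld
    have hcl : orderOf (c * l) = 4 := iso_four hD hT.1 hlI
      (profile hD hl.1.1 (pp_symm hD hl F.qD) (oddPartners_symm hD F.zD (F.qA hD)))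
    exact ⟨l, hl, hlI, hl4, hl2, hcl, hT.2.2 l (pp_link hd hld) hcl, h4', hmid, had⟩
  choose! L hL using hlift
  obtain ⟨s1, hs1, s2, hs2, hσ, heq, hcomm⟩ := S.collision hd hbD (fun s => (c * L s) ^ 2)
    fun s hs => (hL s hs).2.2.2.2.2.1
  obtain ⟨hl1, -, -, h12, hc1, -, hb4, hb2, ha1d⟩ := hL s1 hs1
  obtain ⟨hl2, -, -, h22, hc2, -, -⟩ := hL s2 hs2
  have hLeq : L s1 = L s2 := four_injective hD F.qD
    (oddPartners_symm hD F.zD (F.qA hD)) hl1 hl2 hc1 hc2 heq
  rw [← hLeq] at h22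
  obtain ⟨l, hl⟩ : ∃ l, l = L s1 := ⟨_, rfl⟩
  rw [← hl] at hl1 h12 h22
  obtain ⟨hs11, -⟩ := S.sub_facts hbD hs1
  obtain ⟨hs22, -⟩ := S.sub_facts hbD hs2
  obtain ⟨σ, hσdef⟩ : ∃ σ, σ = s1 * s2 := ⟨_, rfl⟩
  rw [← hσdef] at hσ
  obtain ⟨a, hadef⟩ : ∃ a, a = s1 * w * s1 := ⟨_, rfl⟩
  rw [← hadef] at h12 hb4 hb2 ha1d
  have ha2 : s2 * w * s2 = σ * a * σ := by
    have h1 : s1 * s2 * s1 = s2 := by rw [hcomm, mul_assoc, hs11, mul_one]
    calc s2 * w * s2 = s1 * s2 * s1 * w * (s1 * (s1 * s2)) := by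
          rw [h1, ← mul_assoc s1 s1, hs11, one_mul]
      _ = σ * a * σ := by rw [hσdef, hadef]; simp only [mul_assoc]
  rw [ha2] at h22
  have haI := pp_iso hD hd ha1d
  have haD := haI.1
  have hσI := iso_of_cls hD S.conn hd hb hσ
  have haσ : orderOf (a * σ) = 4 := iso_four hD haI hσI fun h =>
    four_ne_comm hD hbD haD hb4 ((cls_comm_iff hσ haD).1 h).symm
  obtain ⟨z, hz⟩ : ∃ z, z = (a * σ) ^ 2 := ⟨_, rfl⟩
  have hza : σ * a * σ = z * a := by rw [hz]; exact (four_sq_mul hD haD hσI.1 haσ).symm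
  have hzσ : z ∈ productPartners D σ := hz ▸ sq_pp' hD haD hσI.1 haσ
  have hza' : z ∈ productPartners D a := hz ▸ sq_pp hD haD hσI.1 haσ
  have hzD := hzσ.1.1
  have hzl : z * l = l * z := by
    rw [hza] at h22
    have h3 : a * l * a = z * a * l * (z * a) := by
      refine mul_right_cancel (b := l) ?_
      have e1 : ∀ u : G, u * l * u * l = (u * l) ^ 2 := fun u => by
        rw [pow_two]; simp only [mul_assoc]
      rw [e1, e1, h12, h22]
    have h5 : z * a * (z * a) = 1 := by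
      rw [← pow_two, (show Commute z a from hza'.1.2.1).mul_pow, pow_two, pow_two,
        mul_self hD hzD, mul_self hD haD, one_mul]
    calc z * l = z * a * (a * l * a) * a := by
          simp only [mul_assoc, mul_self hD haD, mul_one]
          rw [← mul_assoc a a, mul_self hD haD, one_mul]
      _ = z * a * (z * a) * l * (z * (a * a)) := by rw [h3]; simp only [mul_assoc]
      _ = l * z := by rw [h5, one_mul, mul_self hD haD, mul_one]
  have hbac : a * b * a = b * c := by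
    rw [← hcb.1.2.1, ← hb2]; exact (four_sq_mul hD hbD haD hb4).symm
  have hqe : q ∈ oddPartners D (a * σ * a) := by
    have hcls : a * σ * a ∈ sameCommutingClass D (a * b * a) := by
      have := cls_conj hD S.conn a hbD hσ
      simpa only [MulAut.conj_apply, inv_eq hD haD] using this
    rw [cls_odd hD S.conn (conj_mem' hD hbD haD) hcls, hbac]
    exact (profile_odd hD hbD hcb (F.qA hD)).resolve_left fun h => hbq (oddPartners_symm hD hbD h)
  have hσa : (σ * a) ^ 2 = z := by rw [four_sq_swap hD haD hσI.1 haσ, hz]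
  have hσe : σ * (a * σ * a) = z := by rw [← hσa, pow_two]; simp only [mul_assoc]
  have hepp : a * σ * a ∈ productPartners D σ := by
    have hcc : σ * (a * σ * a) = a * σ * a * σ :=
      commute_conj_of_four hD hσI.1 haD ((orderOf_swap hD haD hσI.1).trans haσ)
    refine ⟨⟨conj_mem' hD hσI.1 haD, hcc.symm, fun h => ?_⟩, ?_⟩
    · rw [h, mul_self hD hσI.1] at hσe
      exact ne_one hD hzD hσe.symm
    · rw [← hcc, hσe]; exact hzD
  rcases profile_odd hD hσI.1 hepp hqe with h | h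
  · rw [cls_odd hD S.conn hbD hσ] at h
    exact hbq (oddPartners_symm hD hbD h)
  · rw [hσe] at h
    exact profile hD hl1.1.1 (pp_symm hD hl1 F.qD) (oddPartners_symm hD hzD h) hzl

theorem shift_middle (hd : d ∈ D) (hi : GoodLevel D d (i + 1)) (hb : b ∈ isoSet D d)
    (hbY : b ∉ linkSet D d) (hbl : b ∈ depth D d i) (hσ : σ ∈ linkSet D d)
    (hbσ : orderOf (b * σ) = 4) (hm : m ∈ productPartners D d) (hσm : orderOf (σ * m) = 4) :
    b * (σ * m) ^ 2 = (σ * m) ^ 2 * b := by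
  have hD := S.rset
  have hbD := hb.1
  have hσI := link_iso hD hσ
  have hσD := hσI.1
  have hmI := pp_iso hD hd hm
  have hmD := hmI.1
  have hnot : ∀ {u}, u ∈ sameCommutingClass D d → b ∈ productPartners D u → False :=
    fun {u} h1 h2 => hbY ⟨u, h1, h2⟩
  obtain ⟨z, hz⟩ : ∃ z, z = (b * σ) ^ 2 := ⟨_, rfl⟩
  have hzI : z ∈ isoSet D d := hz ▸ iso_middle hD hb hσI hbσ
  have hzb : z ∈ productPartners D b := hz ▸ sq_pp hD hbD hσD hbσ
  have hzl : z ∈ depth D d (i + 1) := hz ▸ middle_depth hD hb hσI hbσ (Or.inl hbl)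
  have hzY : z ∈ linkSet D d :=
    S.top_link hd (S.top_of_good hi hzI hzl fun h => hnot h (pp_symm hD hzb hbD))
  obtain ⟨h, hh⟩ : ∃ h, h = (σ * m) ^ 2 := ⟨_, rfl⟩
  rw [← hh]
  have hhI : h ∈ isoSet D d := hh ▸ iso_middle hD hσI hmI hσm
  obtain ⟨e1, he1⟩ : ∃ e, e = (z * m) ^ 2 := ⟨_, rfl⟩
  obtain ⟨e3, he3⟩ : ∃ e, e = (z * h) ^ 2 := ⟨_, rfl⟩
  have hE1 : e1 ∈ sameCommutingSubgroup D d := he1 ▸ S.sq_sub hd hi hzI hmI hzl (Or.inl hzY)
  have hE3 : e3 ∈ sameCommutingSubgroup D d := he3 ▸ S.sq_sub hd hi hzI hhI hzl (Or.inl hzY)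
  obtain ⟨v, hv⟩ : ∃ v, v = (b * m) ^ 2 := ⟨_, rfl⟩
  obtain ⟨e2, he2⟩ : ∃ e, e = (v * σ) ^ 2 := ⟨_, rfl⟩
  obtain ⟨e4, he4⟩ : ∃ e, e = (v * h) ^ 2 := ⟨_, rfl⟩
  have hvv : v * v = 1 ∧ e2 ∈ sameCommutingSubgroup D d ∧ e4 ∈ sameCommutingSubgroup D d ∧
      ∀ e ∈ sameCommutingSubgroup D d, Commute e v := by
    by_cases hbm : b * m = m * b
    · have hv1 : v = 1 := by rw [hv, sq_of_comm hD hbD hmD hbm]
      subst hv1
      refine ⟨one_mul 1, ?_, ?_, fun e _ => Commute.one_right e⟩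
      · rw [he2, one_mul, pow_two, mul_self hD hσD]; exact one_mem _
      · rw [he4, one_mul, pow_two, mul_self hD hhI.1]; exact one_mem _
    · have h4 := iso_four hD hb hmI hbm
      have hvI : v ∈ isoSet D d := hv ▸ iso_middle hD hb hmI h4
      have hvl : v ∈ depth D d (i + 1) := hv ▸ middle_depth hD hb hmI h4 (Or.inl hbl)
      have hvY : v ∈ linkSet D d := S.top_link hd (S.top_of_good hi hvI hvl fun h' =>
        hnot h' (pp_symm hD (hv ▸ sq_pp hD hbD hmD h4) hbD))
      exact ⟨mul_self hD hvI.1, he2 ▸ S.sq_sub hd hi hvI hσI hvl (Or.inl hvY),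
        he4 ▸ S.sq_sub hd hi hvI hhI hvl (Or.inl hvY), fun e he => S.sub_comm hd he hvI⟩
  obtain ⟨hvv, hE2, hE4, hEv⟩ := hvv
  have swap2 : ∀ {u v e : G}, u * u = 1 → v * v = 1 → (u * v) ^ 2 = e → v * u = u * e * v := by
    intro u v e hu hv' he
    rw [← he, pow_two]; simp only [mul_assoc]
    rw [← mul_assoc u u, hu, one_mul, hv', mul_one]
  have hhh := mul_self hD hhI.1
  have hzz := mul_self hD hzI.1
  have hbb := mul_self hD hbD
  have hσσ := mul_self hD hσD
  have hmm := mul_self hD hmD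
  have hσbσ : σ * b * σ = z * b := by rw [hz]; exact (four_sq_mul hD hbD hσD hbσ).symm
  have hσmσ : σ * m * σ = h * m := by
    rw [hh, ← four_sq_swap hD hσD hmD hσm]
    exact (four_sq_mul hD hmD hσD ((orderOf_swap hD hσD hmD).trans hσm)).symm
  have hhm : h * m = m * h := by
    rw [hh]; exact (sq_pp' hD hσD hmD hσm).1.2.1
  have r1 : m * z = z * e1 * m := swap2 hzz hmm he1.symm
  have r3 : h * z = z * e3 * h := swap2 hzz hhh he3.symm
  have r4 : h * v = v * e4 * h := swap2 hvv hhh he4.symm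
  have rv : m * b = b * v * m := swap2 hbb hmm hv.symm
  have hlhs : σ * v * σ = v * e2 := by
    rw [he2, pow_two]; simp only [mul_assoc]
    rw [← mul_assoc v v, hvv, one_mul]
  obtain ⟨f0, hf0⟩ : ∃ f, f = (b * h) ^ 2 := ⟨_, rfl⟩
  have cI : ∀ {e x : G}, e ∈ sameCommutingSubgroup D d → x ∈ isoSet D d → Commute e x :=
    fun he hx => S.sub_comm hd he hx
  have hrhs : σ * v * σ = e1 * e3 * e4 * f0 * v := by
    have h1 : σ * v * σ = (z * b * (h * m)) ^ 2 := by
      rw [← hσbσ, ← hσmσ, hv, conj_sq_eq hD hσσ]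
    have hzbz : z * b * z = b := by rw [hzb.1.2.1, mul_assoc, hzz, mul_one]
    have hvh : v * h = e4 * (h * v) := by
      have : h * v * h = v * e4 := by rw [r4, mul_assoc, hhh, mul_one]
      calc v * h = e4 * (v * e4 * h) := by
            rw [← (hEv e4 hE4).eq]
            have h44 : e4 * e4 = 1 := by
              rcases (S.mem_sub hd).1 hE4 with h' | rfl
              · exact mul_self hD h'.1
              · exact one_mul 1
            rw [← mul_assoc, ← mul_assoc, h44, one_mul]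
        _ = e4 * (h * v) := by rw [r4]
    calc σ * v * σ = z * b * h * (m * z) * b * h * m := by rw [h1, pow_two]; simp only [mul_assoc]
      _ = z * b * (h * z) * e1 * (m * b) * h * m := by rw [r1]; simp only [mul_assoc]
      _ = z * b * z * e3 * (h * e1) * b * v * (m * h * m) := by
          rw [r3, rv]; simp only [mul_assoc]
      _ = b * e3 * (e1 * h) * b * (v * h) := by
          rw [hzbz, (cI hE1 hhI).eq, ← hhm, mul_assoc h m m, hmm, mul_one]
          simp only [mul_assoc]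
      _ = b * e3 * (e1 * (h * b * e4)) * (h * v) := by rw [hvh]; simp only [mul_assoc]
      _ = b * e3 * (e1 * (e4 * (h * b))) * (h * v) := by
          rw [((cI hE4 hhI).mul_right (cI hE4 hb)).eq]
      _ = b * (e3 * e1 * e4) * (h * b * h * v) := by simp only [mul_assoc]
      _ = e1 * e3 * e4 * f0 * v := by
          rw [← ((cI (mul_mem (mul_mem hE3 hE1) hE4) hb)).eq,
            show e3 * e1 = e1 * e3 by
              rcases (S.mem_sub hd).1 hE3 with h' | rfl
              · rcases (S.mem_sub hd).1 hE1 with h'' | rfl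
                · exact cls_comm h' h''
                · rw [mul_one, one_mul]
              · rw [mul_one, one_mul], hf0, pow_two]
          simp only [mul_assoc]
  have hf : f0 ∈ sameCommutingSubgroup D d := by
    have : e1 * e3 * e4 * f0 = e2 := by
      refine mul_right_cancel (b := v) ?_
      rw [← hrhs, hlhs, (hEv e2 hE2).eq]
    rw [show f0 = (e1 * e3 * e4)⁻¹ * e2 by rw [← this]; group]
    exact mul_mem (inv_mem (mul_mem (mul_mem hE1 hE3) hE4)) hE2
  rcases (S.mem_sub hd).1 hf with hf | hf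
  · exfalso
    refine hnot hf (pp_symm hD ?_ hbD)
    rw [hf0]
    exact sq_pp hD hbD hhI.1 (orderOf_four_of_sq hD (hf0 ▸ hf.1))
  · exact comm_of_sq hD hbD hhI.1 (hf0 ▸ hf)

theorem good_step_core (hd : d ∈ D) (hi : GoodLevel D d (i + 1)) (hb : b ∈ isoSet D d)
    (hw : w ∈ productPartners D d) (h4 : orderOf (b * w) = 4)
    (hcase : w ∈ depth D d i ∨ (b ∈ depth D d i ∧ b ∉ linkSet D d)) :
    (b * w) ^ 2 ∈ sameCommutingClass D d := by
  by_contra hbad
  have hD := S.rset
  have hbD := hb.1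
  have hwI := pp_iso hD hd hw
  have hwD := hwI.1
  obtain ⟨c, hc⟩ : ∃ c, c = (b * w) ^ 2 := ⟨_, rfl⟩
  rw [← hc] at hbad
  have hcw : c ∈ productPartners D w := hc ▸ sq_pp' hD hbD hwD h4
  have hcI : c ∈ isoSet D d := hc ▸ iso_middle hD hb hwI h4
  have hcl : c ∈ depth D d (i + 1) :=
    hc ▸ middle_depth hD hb hwI h4 (hcase.symm.imp (fun h => h.1) id)
  have hT := S.top_of_good hi hcI hcl hbad
  obtain ⟨-, q, F⟩ := S.top_frame hd hT
  have hcY := S.top_link hd hT
  have hcA : c ∈ oddPartners D q := oddPartners_symm hD F.zD (F.qA hD)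
  obtain ⟨hwq, hwm⟩ := S.bad_w_odd hd hb hw h4 hc.symm F
  obtain ⟨m, hm⟩ : ∃ m, m = (q * d) ^ 2 := ⟨_, rfl⟩
  rw [← hm] at hwm
  have hmd : m ∈ productPartners D d := hm ▸ F.md hD
  have hmq : m ∈ productPartners D q := hm ▸ F.mq hD
  have hmI := pp_iso hD hd hmd
  have hmD := hmI.1
  have hwE : w ∉ sameCommutingClass D d := fun h =>
    four_ne_comm hD hbD hwD h4 ((cls_comm_iff h hbD).2 hb.2.1)
  have hcm4 : orderOf (c * m) = 4 := hm ▸ F.four_zm hD
  have hcm2 : (c * m) ^ 2 = d := hm ▸ F.sq_zm hD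
  have hσm : ∀ σ ∈ sameCommutingClass D w, orderOf (σ * m) = 4 := fun σ hσ =>
    iso_four hD (iso_of_cls hD S.conn hd hwI hσ) hmI fun h =>
      hwm ((cls_comm_iff hσ hmD).1 h.symm).symm
  have hH : ∀ b', b' ∈ isoSet D d → orderOf (b' * w) = 4 →
      (w ∈ depth D d i ∨ (b' ∈ depth D d i ∧ b' ∉ linkSet D d)) →
      ∀ σ ∈ sameCommutingClass D w, b' * (σ * m) ^ 2 = (σ * m) ^ 2 * b' := by
    intro b' hb' hb4' hcase' σ hσ
    rcases hcase' with hdeep | ⟨hdeep, hY⟩
    · have hfull := S.full_of_good hd hi hw hwE hdeep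
      have hσt : ∀ t ∈ sameCommutingClass D d, σ ∈ productPartners D t := by
        refine S.pp_spread hd (z := w) (fun t ht => ⟨hfull t ht, ?_⟩) σ hσ
        obtain ⟨l, hl, hl4, hl2⟩ := S.exists_root (hfull t ht) ht.1 (by rw [cls_eq ht]; exact hwE)
        exact ⟨l, hl.1.1, hl4, hl2⟩
      have hσq : σ ∈ oddPartners D q := by
        refine oddPartners_symm hD hσ.1 ?_
        rw [cls_odd hD S.conn hwD hσ]
        exact oddPartners_symm hD F.qD hwq
      have hσd := hσt d (cls_self hd)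
      obtain ⟨l, hl, hl4, hl2⟩ := four_lift hD F.qD hσq (pp_symm hD hσd hd) F.four
      have hlD := hl.1.1
      have hld : l ∈ productPartners D d := pp_symm hD (hl2 ▸ sq_pp' hD hσ.1 hlD hl4) hlD
      have hcl4 : orderOf (c * l) = 4 := iso_four hD hcI (pp_iso hD hd hld)
        (profile hD hlD (pp_symm hD hl F.qD) hcA)
      have hu := hT.2.2 l (pp_link hd hld) hcl4
      obtain ⟨u, hudef⟩ : ∃ u, u = (c * l) ^ 2 := ⟨_, rfl⟩
      rw [← hudef] at hu
      have Fu : Frame D u c q :=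
        ⟨F.zD, F.qD, F.three, hudef ▸ sq_pp hD F.zD hlD hcl4,
          cls_four hD S.conn hd hu F.qD F.four⟩
      have hlu : l = (q * u) ^ 2 := four_injective hD F.qD hcA hl (Fu.mq hD) hcl4
        (Fu.four_zm hD) (by rw [Fu.sq_zm hD, hudef])
      have hlm : l ∈ sameCommutingClass D m := by
        rw [hlu, ← Fu.conj_d hD, hm, ← F.conj_d hD]
        exact cls_conj hD S.conn _ hd hu
      obtain ⟨q3, F3, hq3⟩ := exists_frame hD S.conn hσ.1 hlD hl4 hl2
      have himg : m ∈ MulAut.conj (σ * q3) '' sameCommutingClass D d := by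
        rw [cls_conj_image hD S.conn _ hd, F3.conj_d hD, hq3, cls_eq hlm]
        exact cls_self hmD
      obtain ⟨τ, hτ, hτm⟩ := himg
      have Fτ : Frame D τ σ q3 := ⟨F3.zD, F3.qD, F3.three, pp_symm hD (hσt τ hτ) hτ.1,
        cls_four hD S.conn hd hτ F3.qD F3.four⟩
      have h2 := Fτ.sq_zm hD
      rw [← Fτ.conj_d hD, hτm] at h2
      rw [h2]
      exact (cls_comm_iff hτ hb'.1).2 hb'.2.1
    · have hσY : σ ∈ linkSet D d := S.link_cls (pp_link hd hw) hσ
      have hbσ : orderOf (b' * σ) = 4 := iso_four hD hb' (link_iso hD hσY) fun h =>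
        four_ne_comm hD hb'.1 hwD hb4' ((cls_comm_iff hσ hb'.1).1 h)
      exact S.shift_middle hd hi hb' hY hdeep hσY hbσ hmd (hσm σ hσ)
  have hpairs : ∀ s ∈ sameCommutingSubgroup D w, s * b * s ∈ isoSet D d ∧
      orderOf (s * b * s * w) = 4 ∧ (s * b * s * w) ^ 2 = c ∧
      (w ∈ depth D d i ∨ (s * b * s ∈ depth D d i ∧ s * b * s ∉ linkSet D d)) := by
    intro s hs
    rcases (S.mem_sub hwD).1 hs with hs | rfl
    · have hsI := iso_of_cls hD S.conn hd hwI hs
      have hss := mul_self hD hs.1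
      have hconj : ∀ u, MulAut.conj s u = s * u * s := fun u => by
        rw [MulAut.conj_apply, inv_eq hD hs.1]
      have hmid : (s * b * s * w) ^ 2 = c := by
        have hsw : Commute s w := cls_comm_self hs hwD
        have hsc' : Commute s c := ((cls_comm_iff hs hcI.1).2 hcw.1.2.1).symm
        nth_rewrite 1 [show w = s * w * s by rw [hsw.eq, mul_assoc, hss, mul_one]]
        rw [conj_sq_eq hD hss, ← hc, hsc'.eq, mul_assoc, hss, mul_one]
      refine ⟨iso_swap hD hb hsI, orderOf_four_of_sq hD (hmid ▸ hcI.1), hmid,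
        hcase.imp_right fun ⟨hbl, hbY⟩ => ⟨?_, fun hY => hbY ?_⟩⟩
      · have : s * b * s = b * (b * s) ^ 2 := by
          rw [pow_two]; simp only [mul_assoc]
          rw [← mul_assoc b b, mul_self hD hbD, one_mul]
        rw [this]
        exact mul_mem hbl (depth_succ_le (sq_depth hD hb hsI hbl))
      · have := link_conj hD s (conj_eq_of_comm hsI.2.1) hd S.conn hY
        rwa [hconj, show s * (s * b * s) * s = s * s * b * (s * s) by simp only [mul_assoc],
          hss, one_mul, mul_one] at this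
    · simp only [one_mul, mul_one]
      exact ⟨hb, h4, hc.symm, hcase⟩
  have hshift : ∀ s ∈ sameCommutingSubgroup D w, ∃ l, l ∈ productPartners D q ∧
      l = (q * (s * b * s * m) ^ 2) ^ 2 ∧ orderOf (q * (s * b * s * m) ^ 2) = 4 ∧
      (s * b * s * m) ^ 2 ∈ isoSet D d ∧ orderOf (s * b * s * m) = 4 ∧
      orderOf (c * l) = 4 ∧ (c * l) ^ 2 ∈ sameCommutingClass D d := by
    intro s hs
    obtain ⟨hb'I, hb'4, hb'2, -⟩ := hpairs s hs
    obtain ⟨b', hb'⟩ : ∃ b', b' = s * b * s := ⟨_, rfl⟩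
    rw [← hb'] at hb'I hb'4 hb'2 ⊢
    have hb'D := hb'I.1
    have hbq := S.bad_b_odd hd hb'I hw hb'4 hb'2 hT F
    have hbm : orderOf (b' * m) = 4 :=
      iso_four hD hb'I hmI (profile hD hmD (pp_symm hD hmq F.qD) hbq)
    obtain ⟨v, hv⟩ : ∃ v, v = (b' * m) ^ 2 := ⟨_, rfl⟩
    rw [← hv]
    have hvI : v ∈ isoSet D d := hv ▸ iso_middle hD hb'I hmI hbm
    have hvb : v ∈ productPartners D b' := hv ▸ sq_pp hD hb'D hmD hbm
    have hvm : v ∈ productPartners D m := hv ▸ sq_pp' hD hb'D hmD hbm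
    have hvD := hvI.1
    have hqv : orderOf (q * v) = 4 := by
      refine four_of_not hD F.qD hvD
        (profile hD hvD (pp_symm hD hvb hb'D) (oddPartners_symm hD F.qD hbq)) fun h => ?_
      exact profile hD hmD (pp_symm hD hmq F.qD) h hvm.1.2.1
    have hvdm : v ∈ productPartners D (d * m) := by
      have hdm : d * m ∈ D := hmd.1.2.1 ▸ hmd.2
      have h1 : v * (d * m) ∈ D := by
        have := conj_mem' hD hdm hb'D
        have hb'mb' : b' * m * b' = v * m := by
          rw [hv, ← four_sq_swap hD hb'D hmD hbm]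
          exact (four_sq_mul hD hmD hb'D ((orderOf_swap hD hb'D hmD).trans hbm)).symm
        rwa [show b' * (d * m) * b' = d * (b' * m * b') by
          rw [← mul_assoc b', hb'I.2.1]; simp only [mul_assoc], hb'mb', ← mul_assoc d,
          ← hvI.2.1, mul_assoc] at this
      refine ⟨⟨hvD, (Commute.mul_right hvI.2.1 hvm.1.2.1).eq, fun h => ?_⟩, h1⟩
      rw [← h, mul_self hD hvD] at h1
      exact ne_one hD h1 rfl
    have hqd : MulAut.conj q (d * m) = d := by
      have h1 : q * d * q = m * d := by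
        rw [hm, ← four_sq_swap hD F.qD hd F.four]
        exact (four_sq_mul hD hd F.qD ((orderOf_swap hD F.qD hd).trans F.four)).symm
      have h2 : q * m * q = m := by rw [← hmq.1.2.1, mul_assoc, mul_self hD F.qD, mul_one]
      rw [MulAut.conj_apply, inv_eq hD F.qD,
        show q * (d * m) * q = q * d * q * (q * m * q) by
          simp only [mul_assoc]; rw [← mul_assoc q q, mul_self hD F.qD, one_mul],
        h1, h2, mul_assoc, ← hmd.1.2.1, ← mul_assoc, mul_self hD hmD, one_mul]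
    have huI : q * v * q ∈ isoSet D d := by
      have := pp_conj hD q hvdm
      rw [hqd, MulAut.conj_apply, inv_eq hD F.qD] at this
      exact pp_iso hD hd this
    obtain ⟨l, hl⟩ : ∃ l, l = (q * v) ^ 2 := ⟨_, rfl⟩
    have hlq : l ∈ productPartners D q := hl ▸ sq_pp hD F.qD hvD hqv
    have hlv : l ∈ productPartners D v := hl ▸ sq_pp' hD F.qD hvD hqv
    have hluv : l = q * v * q * v := by rw [hl, pow_two]; simp only [mul_assoc]
    have hlI : l ∈ isoSet D d := by
      refine ⟨hlq.1.1, ?_, fun x hx => ?_⟩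
      · rw [hluv]; exact (Commute.mul_left huI.2.1 hvI.2.1).eq
      · rcases profile_odd hD hvD hlv hx with h | h
        · exact hvI.2.2 x h
        · rw [← hlv.1.2.1, hluv, mul_assoc _ v v, mul_self hD hvD, mul_one] at h
          exact huI.2.2 x h
    have hcl4 : orderOf (c * l) = 4 :=
      iso_four hD hcI hlI (profile hD hlq.1.1 (pp_symm hD hlq F.qD) hcA)
    refine ⟨l, hlq, hl, hqv, hvI, hbm, hcl4, ?_⟩
    rw [← four_sq_swap hD hcI.1 hlI.1 hcl4]
    exact hi l hlI c hcY (Or.inr hcl) ((orderOf_swap hD hcI.1 hlI.1).trans hcl4)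
  choose! L hL using hshift
  obtain ⟨s1, hs1, s2, hs2, hσ, heq, hcomm⟩ := S.collision hd hwD (fun s => (c * L s) ^ 2)
    fun s hs => (hL s hs).2.2.2.2.2.2
  obtain ⟨hl1, hl1', -, hv1I, hb1m, hc1, -⟩ := hL s1 hs1
  obtain ⟨hl2, hl2', -, hv2I, hb2m, hc2, -⟩ := hL s2 hs2
  have hLeq : L s1 = L s2 := four_injective hD F.qD hcA hl1 hl2 hc1 hc2 heq
  rw [hl1', hl2'] at hLeq
  obtain ⟨b1, hb1⟩ : ∃ x, x = s1 * b * s1 := ⟨_, rfl⟩
  obtain ⟨b2, hb2⟩ : ∃ x, x = s2 * b * s2 := ⟨_, rfl⟩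
  obtain ⟨v1, hv1⟩ : ∃ x, x = (b1 * m) ^ 2 := ⟨_, rfl⟩
  obtain ⟨v2, hv2⟩ : ∃ x, x = (b2 * m) ^ 2 := ⟨_, rfl⟩
  rw [← hb1] at hb1m hLeq hv1I
  rw [← hb2] at hb2m hLeq hv2I
  rw [← hv1, ← hv2] at hLeq
  rw [← hv1] at hv1I
  rw [← hv2] at hv2I
  obtain ⟨hp1I, hp14, hp12, hp1c⟩ := hpairs s1 hs1
  obtain ⟨hp2I, hp24, -, hp2c⟩ := hpairs s2 hs2
  rw [← hb1] at hp1I hp14 hp12 hp1c
  rw [← hb2] at hp2I hp24 hp2c
  obtain ⟨hs11, -⟩ := S.sub_facts hwD hs1
  obtain ⟨hs22, -⟩ := S.sub_facts hwD hs2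
  obtain ⟨σ, hσdef⟩ : ∃ σ, σ = s1 * s2 := ⟨_, rfl⟩
  rw [← hσdef] at hσ
  have hσD := hσ.1
  have hσI := iso_of_cls hD S.conn hd hwI hσ
  have hbσ : σ * b1 * σ = b2 := by
    have h1 : s1 * s2 * s1 = s2 := by rw [hcomm, mul_assoc, hs11, mul_one]
    have h2 : s1 * (s1 * s2) = s2 := by rw [← mul_assoc, hs11, one_mul]
    rw [hσdef, hb1, hb2]
    calc s1 * s2 * (s1 * b * s1) * (s1 * s2) = s1 * s2 * s1 * b * (s1 * (s1 * s2)) := by
          simp only [mul_assoc]
      _ = s2 * b * s2 := by rw [h1, h2]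
  have hv21q : Commute q (v2 * v1) := by
    have h3 : v1 * q * v1 = v2 * q * v2 := by
      refine mul_left_cancel (a := q) ?_
      have e1 : ∀ u : G, q * (u * q * u) = (q * u) ^ 2 := fun u => by
        rw [pow_two]; simp only [mul_assoc]
      rw [e1, e1, hLeq]
    show q * (v2 * v1) = v2 * v1 * q
    calc q * (v2 * v1) = v2 * (v2 * q * v2) * v1 := by
          simp only [mul_assoc]; rw [← mul_assoc v2 v2, mul_self hD hv2I.1, one_mul]
      _ = v2 * v1 * q := by
          rw [← h3]; simp only [mul_assoc, mul_self hD hv1I.1, mul_one]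
  obtain ⟨h, hh⟩ : ∃ h, h = (σ * m) ^ 2 := ⟨_, rfl⟩
  have hflip : ∀ τ ∈ sameCommutingClass D w, ∀ x, Commute x ((τ * m) ^ 2) →
      (x * (τ * m * τ)) ^ 2 = (x * m) ^ 2 := by
    intro τ hτ x hx
    have h4τ := hσm τ hτ
    have hτm : τ * m * τ = (τ * m) ^ 2 * m := by
      rw [← four_sq_swap hD hτ.1 hmD h4τ]
      exact (four_sq_mul hD hmD hτ.1 ((orderOf_swap hD hτ.1 hmD).trans h4τ)).symm
    have hmm' : Commute ((τ * m) ^ 2) m := (sq_pp' hD hτ.1 hmD h4τ).1.2.1
    rw [hτm, ← mul_assoc, hx.eq, mul_assoc, (hx.symm.mul_right hmm').mul_pow,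
      pow_two ((τ * m) ^ 2), mul_self hD (sq_mem_of_four hD hτ.1 hmD h4τ), one_mul]
  have hv2eq : v2 = σ * v1 * σ := by
    rw [hv1, ← conj_sq_eq hD (mul_self hD hσD), hbσ,
      hflip σ hσ b2 (hH b2 hp2I hp24 hp2c σ hσ), hv2]
  have hv1σ : v1 * σ ≠ σ * v1 := by
    intro h'
    have hvw : v1 * w = w * v1 := (cls_comm_iff hσ hv1I.1).1 h'
    have hwbw : w * b1 * w = c * b1 := by
      rw [← hp12]; exact (four_sq_mul hD hp1I.1 hwD hp14).symm
    have hww := mul_self hD hwD
    have hhw : Commute b1 ((w * m) ^ 2) := hH b1 hp1I hp14 hp1c w (cls_self hwD)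
    have hch : Commute c ((w * m) ^ 2) := by
      have hcmc : c * m * c = d * m := by
        rw [← hcm2, pow_two]; simp only [mul_assoc, mul_self hD hmD, mul_one]
      have hcwc : c * w * c = w := by rw [hcw.1.2.1, mul_assoc, mul_self hD hcI.1, mul_one]
      refine (SemiconjBy.eq ?_ : c * (w * m) ^ 2 = (w * m) ^ 2 * c)
      show c * (w * m) ^ 2 = (w * m) ^ 2 * c
      have h1 : c * (w * m) ^ 2 * c = (w * m) ^ 2 := by
        rw [← conj_sq_eq hD (mul_self hD hcI.1), hcwc, hcmc, ← mul_assoc, hw.1.2.1, mul_assoc,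
          (Commute.mul_right hw.1.2.1.symm hmd.1.2.1.symm).mul_pow, pow_two d, mul_self hD hd,
          one_mul]
      conv_rhs => rw [← h1]
      rw [mul_assoc _ c c, mul_self hD hcI.1, mul_one]
    have hwv : w * v1 * w = d * v1 := by
      have hmcm : m * c * m = c * d := by
        rw [← hcm2, pow_two]; simp only [mul_assoc]
        rw [← mul_assoc c c, mul_self hD hcI.1, one_mul]
      have hmbm : m * b1 * m = b1 * v1 := by
        rw [hv1, pow_two]; simp only [mul_assoc]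
        rw [← mul_assoc b1 b1, mul_self hD hp1I.1, one_mul]
      have hb1c : b1 * c = c * b1 := by
        rw [← hp12]; exact (sq_pp hD hp1I.1 hwD hp14).1.2.1.symm
      have hb1d : Commute b1 d := hp1I.2.1
      calc w * v1 * w = (w * b1 * w * (w * m * w)) ^ 2 := by rw [hv1, conj_sq_eq hD hww]
        _ = (c * b1 * m) ^ 2 := by
            rw [hwbw, hflip w (cls_self hwD) (c * b1) (hch.mul_left hhw)]
        _ = c * b1 * (m * c * m) * (m * b1 * m) := by
            rw [pow_two]; simp only [mul_assoc]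
            rw [← mul_assoc m m, mul_self hD hmD, one_mul]
        _ = c * (b1 * c) * d * (b1 * v1) := by rw [hmcm, hmbm]; simp only [mul_assoc]
        _ = d * v1 := by
            rw [hb1c, ← mul_assoc c c, mul_self hD hcI.1, one_mul, ← mul_assoc, hb1d.eq,
              mul_assoc d, mul_self hD hp1I.1, mul_one]
    rw [← hvw, mul_assoc, hww, mul_one] at hwv
    exact ne_one hD hd (mul_eq_right.1 hwv.symm)
  have hv1σ4 : orderOf (v1 * σ) = 4 := iso_four hD hv1I hσI hv1σ
  obtain ⟨z, hz⟩ : ∃ z, z = (v1 * σ) ^ 2 := ⟨_, rfl⟩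
  have hzσ : z ∈ productPartners D σ := hz ▸ sq_pp' hD hv1I.1 hσD hv1σ4
  have hzv : v2 * v1 = z := by
    rw [hv2eq, ← four_sq_mul hD hv1I.1 hσD hv1σ4, mul_assoc, mul_self hD hv1I.1, mul_one, hz]
  refine profile hD hzσ.1.1 (pp_symm hD hzσ hσD) ?_ (hzv ▸ hv21q.eq)
  rw [cls_odd hD S.conn hwD hσ]
  exact oddPartners_symm hD F.qD hwq

theorem good_step (hd : d ∈ D) (hi : GoodLevel D d (i + 1)) : GoodLevel D d i := by
  have hD := S.rset
  intro x hx y hy hdeep h4
  have core : ∀ b w, b ∈ isoSet D d → w ∈ linkSet D d → orderOf (b * w) = 4 →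
      (w ∈ depth D d i ∨ (b ∈ depth D d i ∧ b ∉ linkSet D d)) →
      (b * w) ^ 2 ∈ sameCommutingClass D d := by
    rintro b w hb ⟨s, hs, hw⟩ h4' hcase
    have h := S.good_step_core hs.1 (good_cls hs hi) (iso_cls_eq hs ▸ hb) hw h4'
      (by rw [depth_cls hs, link_cls_eq hs]; exact hcase)
    rwa [cls_eq hs] at h
  by_cases hyl : y ∈ depth D d i
  · exact core x y hx hy h4 (Or.inl hyl)
  · have hxl := hdeep.resolve_right hyl
    by_cases hxY : x ∈ linkSet D d
    · rw [← four_sq_swap hD hx.1 (link_iso hD hy).1 h4]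
      exact core y x (link_iso hD hy) hxY ((orderOf_swap hD hx.1 (link_iso hD hy).1).trans h4)
        (Or.inl hxl)
    · exact core x y hx hy h4 (Or.inr ⟨hxl, hxY⟩)

/-- All middles of isolated and linked members lie in `E_d`. -/
theorem good_zero (hd : d ∈ D) : GoodLevel D d 0 := by
  have hD := S.rset
  have : Fact (Nat.Prime 2) := ⟨Nat.prime_two⟩
  obtain ⟨N, hN⟩ := (Subgroup.isNilpotent_iff_lowerCentralSeries _).1
    (iso_isPGroup hD (d := d)).isNilpotent
  refine Nat.decreasingInduction (motive := fun n _ => GoodLevel D d n)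
    (fun n _ h => S.good_step hd h) ?_ (Nat.zero_le N)
  intro x hx y hy hdeep _
  rcases hdeep with h | h
  · rw [depth, hN, Subgroup.mem_bot] at h
    exact absurd h (ne_one hD hx.1)
  · rw [depth, hN, Subgroup.mem_bot] at h
    exact absurd h (ne_one hD (link_iso hD hy).1)

end Setup

end Cfsg.Agent.RootInv81
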