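import Cfsg.Agent.RootInv81.Hexagon

/-!
The isolated members of `C_D(d)`, the members linked to the class `E_d`, and members all of whose
middles with linked members lie in `E_d`.
-/

set_option autoImplicit false
open Cfsg Cfsg.Agent.RootSubgroups.RootInv

namespace Cfsg.Agent.RootInv81

variable {G : Type*} [Group G] {D : Set G} {a b c d e f g k l m n p q r t u w x y z : G}

/-- The members of `C_D(d)` without odd partner in `C_D(d)`. -/
def isoSet (D : Set G) (d : G) : Set G :=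
  {w | w ∈ D ∧ w * d = d * w ∧ ∀ x ∈ oddPartners D w, x * d ≠ d * x}

/-- The product partners of the members of `E_d`. -/
def linkSet (D : Set G) (d : G) : Set G :=
  {y | ∃ s ∈ sameCommutingClass D d, y ∈ productPartners D s}

/-- An isolated member outside `E_d` whose middles with linked members lie in `E_d`. -/
def IsTopMem (D : Set G) (d z : G) : Prop :=
  z ∈ isoSet D d ∧ z ∉ sameCommutingClass D d ∧
    ∀ y ∈ linkSet D d, orderOf (z * y) = 4 → (z * y) ^ 2 ∈ sameCommutingClass D d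

theorem iso_cls_eq (he : e ∈ sameCommutingClass D d) : isoSet D e = isoSet D d := by
  ext w
  constructor
  · rintro ⟨hw, hc, h⟩
    exact ⟨hw, (cls_comm_iff he hw).1 hc, fun x hx h' => h x hx ((cls_comm_iff he hx.1).2 h')⟩
  · rintro ⟨hw, hc, h⟩
    exact ⟨hw, (cls_comm_iff he hw).2 hc, fun x hx h' => h x hx ((cls_comm_iff he hx.1).1 h')⟩

theorem link_cls_eq (he : e ∈ sameCommutingClass D d) : linkSet D e = linkSet D d := by
  simp only [linkSet, cls_eq he]

theorem top_cls (he : e ∈ sameCommutingClass D d) (h : IsTopMem D d z) : IsTopMem D e z := by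
  unfold IsTopMem
  rw [iso_cls_eq he, link_cls_eq he, cls_eq he]
  exact h

theorem pp_link (hd : d ∈ D) (h : y ∈ productPartners D d) : y ∈ linkSet D d :=
  ⟨d, cls_self hd, h⟩

theorem link_conj_cls (hy : y ∈ linkSet D d) (he : e ∈ sameCommutingClass D d) : y ∈ linkSet D e :=
  (link_cls_eq he).symm ▸ hy

section
variable (hD : IsRootInvolutionSet D)
include hD

theorem pp_iso (hd : d ∈ D) (h : e ∈ productPartners D d) : e ∈ isoSet D d :=
  ⟨h.1.1, h.1.2.1, fun _ hx => profile hD hd h hx⟩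

theorem link_iso (hy : y ∈ linkSet D d) : y ∈ isoSet D d := by
  obtain ⟨s, hs, hy⟩ := hy
  rw [← iso_cls_eq hs]
  exact pp_iso hD hs.1 hy

theorem cls_iso [Finite G] (hc : IsConnectedSet (OddAdj D) D) (hd : d ∈ D)
    (he : e ∈ sameCommutingClass D d) : e ∈ isoSet D d := by
  refine ⟨he.1, cls_comm_self he hd, fun x hx h => ?_⟩
  rw [cls_odd hD hc hd he] at hx
  exact oddPartners_not_comm hD hd hx h.symm

theorem iso_four (hx : x ∈ isoSet D d) (hy : y ∈ isoSet D d) (h : x * y ≠ y * x) :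
    orderOf (x * y) = 4 :=
  four_of_not hD hx.1 hy.1 h fun h' => hx.2.2 y h' hy.2.1

theorem iso_conj (w : G) (hw : MulAut.conj w d = d) (hx : x ∈ isoSet D d) :
    MulAut.conj w x ∈ isoSet D d := by
  obtain ⟨hxD, hc, h⟩ := hx
  refine ⟨hD.conj_mem x hxD w, ?_, fun u hu h' => ?_⟩
  · conv_lhs => rw [← hw, ← map_mul, hc, map_mul, hw]
  · rw [MulAut.conj_apply, conj_oddPartners hD] at hu
    obtain ⟨u, hu, rfl⟩ := hu
    refine h u hu ((MulAut.conj w).injective ?_)
    rw [map_mul, map_mul, hw, h']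

omit hD in
theorem conj_eq_of_comm (hw : w * d = d * w) : MulAut.conj w d = d := by
  rw [MulAut.conj_apply, hw, mul_inv_cancel_right]

theorem iso_swap (hx : x ∈ isoSet D d) (hy : y ∈ isoSet D d) :
    y * x * y ∈ isoSet D d := by
  have := iso_conj hD y (conj_eq_of_comm hy.2.1) hx
  rwa [MulAut.conj_apply, inv_eq hD hy.1] at this

theorem iso_middle (hx : x ∈ isoSet D d) (hy : y ∈ isoSet D d)
    (h4 : orderOf (x * y) = 4) : (x * y) ^ 2 ∈ isoSet D d := by
  have hcx := sq_pp hD hx.1 hy.1 h4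
  refine ⟨hcx.1.1, ?_, fun u hu => ?_⟩
  · exact (Commute.mul_left (show Commute x d from hx.2.1) hy.2.1).pow_left 2
  · rcases profile_odd hD hx.1 hcx hu with h | h
    · exact hx.2.2 u h
    · rw [← hcx.1.2.1, four_sq_mul hD hx.1 hy.1 h4] at h
      exact (iso_swap hD hx hy).2.2 u h

theorem iso_isPGroup [Finite G] : IsPGroup 2 (Subgroup.closure (isoSet D d)) := by
  refine isPGroup_closure_of_pow_four _ ?_ (fun x hx => mul_self hD hx.1) fun x hx y hy => ?_
  · intro w hw
    refine Subgroup.mem_set_normalizer_iff.2 fun x => ?_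
    rw [inv_eq hD hw.1]
    refine ⟨fun h => iso_swap hD h hw, fun h => ?_⟩
    have := iso_swap hD h hw
    simp only [mul_assoc] at this
    rwa [mul_self hD hw.1, mul_one, ← mul_assoc, mul_self hD hw.1, one_mul] at this
  · by_cases h : x * y = y * x
    · rw [show 4 = 2 * 2 from rfl, pow_mul, sq_of_comm hD hx.1 hy.1 h, one_pow]
    · exact iso_four hD hx hy h ▸ pow_orderOf_eq_one _

open scoped commutatorElement in
theorem middle_lcs {M : Subgroup G} {i : ℕ} (hx : x ∈ D) (hy : y ∈ D) (hxM : x ∈ M) (hyM : y ∈ M)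
    (h4 : orderOf (x * y) = 4) (hi : x ∈ M.lowerCentralSeries i ∨ y ∈ M.lowerCentralSeries i) :
    (x * y) ^ 2 ∈ M.lowerCentralSeries (i + 1) := by
  have key : ∀ u v : G, u ∈ D → v ∈ D → v ∈ M → u ∈ M.lowerCentralSeries i →
      (u * v) ^ 2 ∈ M.lowerCentralSeries (i + 1) := by
    intro u v hu hv hvM hul
    rw [Subgroup.lowerCentralSeries_succ]
    have := Subgroup.commutator_mem_commutator (H₂ := M) hul hvM
    rw [commutatorElement_def, inv_eq hD hu, inv_eq hD hv] at this
    simpa [pow_two, mul_assoc] using this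
  rcases hi with h | h
  · exact key x y hx hy hyM h
  · rw [← four_sq_swap hD hx hy h4]
    exact key y x hy hx hxM h

theorem exists_frame [Finite G] (hc : IsConnectedSet (OddAdj D) D) (hb : b ∈ D) (hk : k ∈ D)
    (h4 : orderOf (b * k) = 4) (h2 : (b * k) ^ 2 = d) :
    ∃ q, Frame D d b q ∧ (q * d) ^ 2 = k := by
  have hdb : d ∈ productPartners D b := h2 ▸ sq_pp hD hb hk h4
  have hdk : d ∈ productPartners D k := h2 ▸ sq_pp' hD hb hk h4
  have hd := hdb.1.1
  have hAne : oddPartners D d ≠ oddPartners D k := fun h =>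
    four_ne_comm hD hb hk h4
      ((cls_comm_iff ((mem_cls hD hc hk).2 ⟨hd, h⟩) hb).1 hdb.1.2.1.symm)
  obtain ⟨w, hwd, hwk⟩ := exists_odd_sdiff hD hc hd hk hAne
  have hwk4 : orderOf (w * k) = 4 :=
    four_of_not hD hwd.1 hk (profile hD hk hdk hwd) fun h => hwk (oddPartners_symm hD hwd.1 h)
  obtain ⟨q, hq, hq4, hq2⟩ := four_lift hD hwd.1 (oddPartners_symm hD hd hwd)
    (pp_symm hD hdk hk) hwk4
  have hqD := hq.1.1
  refine ⟨q, ⟨hb, hqD, ?_, hdb, (orderOf_swap hD hd hqD).trans hq4⟩, ?_⟩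
  · exact order_three hD hk hb hd hqD ((orderOf_swap hD hb hk).trans h4)
      (by rw [four_sq_swap hD hb hk h4, h2]) hq4 hq2
  · rw [four_sq_swap hD hd hqD hq4, hq2]

/-- The image of a member `s` of `E_d` in `E_k`, `k = (q d)²`, is a product partner of `s`. -/
theorem Frame.image_cls [Finite G] (hc : IsConnectedSet (OddAdj D) D) (F : Frame D d z q)
    {s : G} (hs : s ∈ sameCommutingClass D d) :
    MulAut.conj (z * q) s ∈ sameCommutingClass D ((q * d) ^ 2) ∧
      MulAut.conj (z * q) s ∈ productPartners D s := by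
  have hd := F.dD
  have hzs : z * s = s * z := (cls_comm_iff hs F.zD).2 F.pp.1.2.1.symm
  have hβ : MulAut.conj (z * q) s ∈ sameCommutingClass D ((q * d) ^ 2) :=
    F.conj_d hD ▸ cls_conj hD hc (z * q) hd hs
  refine ⟨hβ, ⟨hβ.1, ?_, ?_⟩, ?_⟩
  · have h1 : s * (q * d) ^ 2 = (q * d) ^ 2 * s :=
      ((cls_comm_iff hs (F.mD hD)).2 (F.md hD).1.2.1).symm
    exact ((cls_comm_iff hβ hs.1).2 h1).symm
  all_goals
    have hqs : orderOf (q * s) = 4 := cls_four hD hc hd hs F.qD F.four
    have hks : (q * s) ^ 2 = q * s * q * s := by rw [pow_two]; simp only [mul_assoc]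
    have hg : MulAut.conj (z * q) ((q * s) ^ 2) = s * MulAut.conj (z * q) s := by
      rw [hks, map_mul]
      congr 1
      rw [conj_two hD F.zD F.qD,
        show z * (q * (q * s * q) * q) * z = z * (q * q * s * (q * q)) * z by
          simp only [mul_assoc],
        mul_self hD F.qD, one_mul, mul_one, hzs, mul_assoc, mul_self hD F.zD, mul_one]
  · intro h
    rw [h, mul_self hD hs.1] at hg
    exact ne_one hD (hD.conj_mem _ (sq_mem_of_four hD F.qD hs.1 hqs) (z * q)) hg
  · have h1 : s * (q * d) ^ 2 = (q * d) ^ 2 * s :=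
      ((cls_comm_iff hs (F.mD hD)).2 (F.md hD).1.2.1).symm
    rw [← ((cls_comm_iff hβ hs.1).2 h1), ← hg]
    exact hD.conj_mem _ (sq_mem_of_four hD F.qD hs.1 hqs) (z * q)

theorem Frame.cls_link [Finite G] (hc : IsConnectedSet (OddAdj D) D) (F : Frame D d z q)
    (he : e ∈ sameCommutingClass D ((q * d) ^ 2)) : e ∈ linkSet D d := by
  rw [← F.conj_d hD, ← cls_conj_image hD hc _ F.dD] at he
  obtain ⟨s, hs, rfl⟩ := he
  exact ⟨s, hs, (F.image_cls hD hc hs).2⟩

end

namespace Setup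

variable (S : Setup D)
include S

theorem link_cls [Finite G] (hy : y ∈ linkSet D d) (he : e ∈ sameCommutingClass D y) :
    e ∈ linkSet D d := by
  obtain ⟨s, hs, hy⟩ := hy
  rw [← link_cls_eq hs]
  have hsD := hs.1
  have hyD := hy.1.1
  by_cases hys : y ∈ sameCommutingClass D s
  · rcases eq_or_ne e s with rfl | hne
    · exact ⟨y, hys, pp_symm S.rset hy hsD⟩
    · exact pp_link hsD (S.cls_pp hsD (cls_eq hys ▸ he) hne)
  · have hAne : oddPartners D y ≠ oddPartners D s := fun h =>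
      hys ((mem_cls S.rset S.conn hsD).2 ⟨hyD, h⟩)
    obtain ⟨w, hwy, hws⟩ := exists_odd_sdiff S.rset S.conn hyD hsD hAne
    have hws4 : orderOf (w * s) = 4 :=
      four_of_not S.rset hwy.1 hsD (profile S.rset hsD hy hwy)
        fun h => hws (oddPartners_symm S.rset hwy.1 h)
    obtain ⟨l, hl, hl4, hl2⟩ := four_lift S.rset hwy.1 (oddPartners_symm S.rset hyD hwy)
      (pp_symm S.rset hy hsD) hws4
    have hlD := hl.1.1
    obtain ⟨q, F, hq⟩ := exists_frame S.rset S.conn hlD hyD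
      ((orderOf_swap S.rset hyD hlD).trans hl4)
      (by rw [four_sq_swap S.rset hyD hlD hl4, hl2] : (l * y) ^ 2 = s)
    exact F.cls_link S.rset S.conn (hq ▸ he)

theorem top_frame [Finite G] (hd : d ∈ D) (h : IsTopMem D d z) :
    z ∈ productPartners D d ∧ ∃ q, Frame D d z q := by
  obtain ⟨hzI, hzE, htop⟩ := h
  have hD := S.rset
  have hzD := hzI.1
  obtain ⟨x, hxz, hxd⟩ := exists_odd_sdiff hD S.conn hzD hd fun h' =>
    hzE ((mem_cls hD S.conn hd).2 ⟨hzD, h'⟩)
  have hxd4 : orderOf (x * d) = 4 :=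
    four_of_not hD hxz.1 hd (hzI.2.2 x hxz) fun h' => hxd (oddPartners_symm hD hxz.1 h')
  obtain ⟨k, hk⟩ : ∃ k, k = (x * d) ^ 2 := ⟨_, rfl⟩
  have hkd : k ∈ productPartners D d := hk ▸ sq_pp' hD hxz.1 hd hxd4
  have hkx : k ∈ productPartners D x := hk ▸ sq_pp hD hxz.1 hd hxd4
  have hkD := hkd.1.1
  have hzk : orderOf (z * k) = 4 :=
    four_of_not hD hzD hkD
      (profile hD hkD (pp_symm hD hkx hxz.1) (oddPartners_symm hD hzD hxz))
      fun h' => hzI.2.2 k h' hkd.1.2.1
  have hu := htop k (pp_link hd hkd) hzk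
  obtain ⟨u, hudef⟩ : ∃ u, u = (z * k) ^ 2 := ⟨_, rfl⟩
  rw [← hudef] at hu
  have huk : u ∈ productPartners D k := hudef ▸ sq_pp' hD hzD hkD hzk
  have hAne : oddPartners D u ≠ oddPartners D k := fun h' => by
    rw [cls_odd hD S.conn hd hu] at h'
    exact four_ne_comm hD hzD hkD hzk
      ((cls_comm_iff ((mem_cls hD S.conn hkD).2 ⟨hd, h'⟩) hzD).1 hzI.2.1)
  obtain ⟨w, hwu, hwk⟩ := exists_odd_sdiff hD S.conn hu.1 hkD hAne
  have hwk4 : orderOf (w * k) = 4 :=
    four_of_not hD hwu.1 hkD (profile hD hkD huk hwu)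
      fun h' => hwk (oddPartners_symm hD hwu.1 h')
  obtain ⟨q, hq, hq4, hq2⟩ := four_lift hD hwu.1 (oddPartners_symm hD hu.1 hwu)
    (pp_symm hD huk hkD) hwk4
  have hqD := hq.1.1
  have h3 : orderOf (z * q) = 3 := order_three hD hkD hzD hu.1 hqD
    ((orderOf_swap hD hzD hkD).trans hzk)
    (by rw [four_sq_swap hD hzD hkD hzk, hudef]) hq4 hq2
  have hqd : orderOf (q * d) = 4 :=
    cls_four hD S.conn hu.1 (cls_symm hu hd) hqD ((orderOf_swap hD hu.1 hqD).trans hq4)
  obtain ⟨k2, hk2⟩ : ∃ k2, k2 = (q * d) ^ 2 := ⟨_, rfl⟩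
  have hk2d : k2 ∈ productPartners D d := hk2 ▸ sq_pp' hD hqD hd hqd
  have hk2q : k2 ∈ productPartners D q := hk2 ▸ sq_pp hD hqD hd hqd
  have hk2D := hk2d.1.1
  have hzk2 : orderOf (z * k2) = 4 :=
    four_of_not hD hzD hk2D
      (profile hD hk2D (pp_symm hD hk2q hqD) (oddPartners_symm hD hzD (odd_of_three hD hzD hqD h3)))
      fun h' => hzI.2.2 k2 h' hk2d.1.2.1
  have he0 := htop k2 (pp_link hd hk2d) hzk2
  obtain ⟨e0, he0def⟩ : ∃ e0, e0 = (z * k2) ^ 2 := ⟨_, rfl⟩
  rw [← he0def] at he0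
  have he0k : e0 ∈ productPartners D k2 := he0def ▸ sq_pp' hD hzD hk2D hzk2
  suffices hed : e0 = d by
    have hdz : d ∈ productPartners D z := hed ▸ he0def ▸ sq_pp hD hzD hk2D hzk2
    exact ⟨pp_symm hD hdz hzD, q, hzD, hqD, h3, hdz, hqd⟩
  have hzkz : z * k2 * z = k2 * e0 := by
    rw [← he0k.1.2.1, he0def, ← four_sq_swap hD hzD hk2D hzk2]
    exact (four_sq_mul hD hk2D hzD ((orderOf_swap hD hzD hk2D).trans hzk2)).symm
  have hqdq : q * d * q = k2 * d := by
    rw [hk2, ← four_sq_swap hD hqD hd hqd]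
    exact (four_sq_mul hD hd hqD ((orderOf_swap hD hqD hd).trans hqd)).symm
  have hqk : q * k2 * q = k2 := by rw [← hk2q.1.2.1, mul_assoc, mul_self hD hqD, mul_one]
  have hzdz : z * d * z = d := by rw [hzI.2.1, mul_assoc, mul_self hD hzD, mul_one]
  have hmulz : ∀ u v : G, z * (u * v) * z = z * u * z * (z * v * z) := fun u v => by
    simp only [mul_assoc]; rw [← mul_assoc z z, mul_self hD hzD, one_mul]
  have hgd : MulAut.conj (z * q) d = k2 * e0 * d := by
    rw [conj_two hD hzD hqD, hqdq, hmulz, hzkz, hzdz]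
  have hgk : MulAut.conj (z * q) k2 = k2 * e0 := by rw [conj_two hD hzD hqD, hqk, hzkz]
  have hg2 : MulAut.conj (z * q) (MulAut.conj (z * q) d) = k2 * d := by
    rw [← MulAut.mul_apply, ← map_mul, show z * q * (z * q) = (z * q)⁻¹ by
      refine eq_inv_of_mul_eq_one_left ?_
      rw [← pow_two, ← pow_succ, show 2 + 1 = orderOf (z * q) from h3.symm, pow_orderOf_eq_one],
      map_inv, MulAut.inv_apply, MulAut.conj_symm_apply, mul_inv_rev, inv_eq hD hzD, inv_eq hD hqD,
      show q * z * d * (z * q) = q * (z * d * z) * q by simp only [mul_assoc], hzdz, hqdq]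
  have hge : MulAut.conj (z * q) e0 = k2 := by
    rw [hgd, map_mul, map_mul, hgk, hgd] at hg2
    have h0 : k2 * (e0 * (MulAut.conj (z * q) e0 * k2 * e0)) * d = k2 * d := by
      rw [← hg2]; simp only [mul_assoc]
    have h1 := mul_left_cancel (a := k2) (b := e0 * (MulAut.conj (z * q) e0 * k2 * e0)) (c := 1)
      ((mul_right_cancel h0).trans (mul_one k2).symm)
    have h2 : MulAut.conj (z * q) e0 * k2 = 1 := by
      calc MulAut.conj (z * q) e0 * k2
          = e0 * (e0 * (MulAut.conj (z * q) e0 * k2 * e0)) * e0 := by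
            simp only [mul_assoc, mul_self hD he0.1, mul_one]
            rw [← mul_assoc e0 e0, mul_self hD he0.1, one_mul]
        _ = 1 := by rw [h1, mul_one, mul_self hD he0.1]
    rw [mul_eq_one_iff_eq_inv, inv_eq hD hk2D] at h2
    exact h2
  have hqe : q * e0 * q = k2 * e0 := by
    rw [← hzkz, ← hge, conj_two hD hzD hqD]
    simp only [mul_assoc, mul_self hD hzD, mul_one]
    rw [← mul_assoc z z, mul_self hD hzD, one_mul]
  by_contra hne
  have hedE := S.cls_mul hd he0 (cls_self hd) hne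
  refine four_ne_comm hD hqD hd hqd ((cls_comm_iff hedE hqD).1 ?_)
  have h1 : q * (e0 * d) * q = e0 * d := by
    calc q * (e0 * d) * q = q * e0 * q * (q * d * q) := by
          simp only [mul_assoc]; rw [← mul_assoc q q, mul_self hD hqD, one_mul]
      _ = e0 * d := by
          rw [hqe, hqdq, ← he0k.1.2.1, mul_assoc, ← mul_assoc k2 k2, mul_self hD hk2D, one_mul]
  conv_rhs => rw [← h1]
  rw [mul_assoc _ q q, mul_self hD hqD, mul_one]

theorem pp_spread [Finite G] (hd : d ∈ D)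
    (hz : ∀ b ∈ sameCommutingClass D d, z ∈ productPartners D b ∧
      ∃ m ∈ D, orderOf (z * m) = 4 ∧ (z * m) ^ 2 = b) :
    ∀ z' ∈ sameCommutingClass D z, ∀ s ∈ sameCommutingClass D d, z' ∈ productPartners D s := by
  have hD := S.rset
  have hsw : ∀ b ∈ sameCommutingClass D d, ∃ r ∈ D, MulAut.conj r z = b := by
    intro b hb
    obtain ⟨hzb, m, hm, hm4, hm2⟩ := hz b hb
    have hzD := hzb.1.1
    have hbm : b ∈ productPartners D m := hm2 ▸ sq_pp' hD hzD hm hm4
    have hbz : b ∈ productPartners D z := hm2 ▸ sq_pp hD hzD hm hm4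
    have hAne : oddPartners D b ≠ oddPartners D z := fun h' =>
      four_ne_comm hD hzD hm hm4
        ((cls_comm_iff ((mem_cls hD S.conn hzD).2 ⟨hb.1, h'⟩) hm).1 hbm.1.2.1.symm).symm
    obtain ⟨w, hwb, hwz⟩ := exists_odd_sdiff hD S.conn hb.1 hzD hAne
    have hwz4 : orderOf (w * z) = 4 :=
      four_of_not hD hwb.1 hzD (profile hD hzD hbz hwb)
        fun h' => hwz (oddPartners_symm hD hwb.1 h')
    obtain ⟨p, hp, hp4, hp2⟩ := four_lift hD hwb.1 (oddPartners_symm hD hb.1 hwb) hzb hwz4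
    have hpD := hp.1.1
    refine ⟨m * p * m, conj_mem' hD hpD hm, ?_⟩
    have hmzm : m * z * m = b * z := by rw [← hm2]; exact (four_sq_mul hD hzD hm hm4).symm
    have hpbp : p * b * p = z * b := by rw [← hp2]; exact (four_sq_mul hD hb.1 hpD hp4).symm
    have hzp : z ∈ productPartners D p := hp2 ▸ sq_pp' hD hb.1 hpD hp4
    have hpzp : p * z * p = z := by rw [← hzp.1.2.1, mul_assoc, mul_self hD hpD, mul_one]
    have hmbm : m * b * m = b := by rw [← hbm.1.2.1, mul_assoc, mul_self hD hm, mul_one]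
    calc MulAut.conj (m * p * m) z = m * (p * (m * z * m) * p) * m := by
          rw [MulAut.conj_apply, inv_eq hD (conj_mem' hD hpD hm)]; simp only [mul_assoc]
      _ = m * (p * b * p * (p * z * p)) * m := by
          rw [hmzm]; congr 2; simp only [mul_assoc]; rw [← mul_assoc p p, mul_self hD hpD, one_mul]
      _ = b := by
          rw [hpbp, hpzp, mul_assoc z, ← hbz.1.2.1.symm, ← mul_assoc z, mul_self hD hzD, one_mul,
            hmbm]
  intro z' hz' s hs
  obtain ⟨r, hr, hrz⟩ := hsw d (cls_self hd)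
  have hzD : z ∈ D := (hz d (cls_self hd)).1.1.1
  have hinv : ∀ v ∈ D, ∀ u, MulAut.conj v (MulAut.conj v u) = u := fun v hv u => by
    rw [← MulAut.mul_apply, ← map_mul, mul_self hD hv, map_one, MulAut.one_apply]
  have hb : MulAut.conj r z' ∈ sameCommutingClass D d :=
    hrz ▸ cls_conj hD S.conn r hzD hz'
  obtain ⟨r', hr', hrz'⟩ := hsw _ hb
  have himg : MulAut.conj (r * r') z = z' := by
    rw [map_mul, MulAut.mul_apply, hrz', hinv r hr]
  have hmap : ∀ e ∈ sameCommutingClass D d, MulAut.conj (r * r') e ∈ sameCommutingClass D d := by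
    intro e he
    have h1 : MulAut.conj r' (MulAut.conj r z') = z := by rw [← hrz', hinv r' hr']
    have h2 := cls_conj hD S.conn r' hb.1 ((cls_eq hb).symm ▸ he)
    rw [h1] at h2
    have h3 := cls_conj hD S.conn r hzD h2
    rw [hrz] at h3
    rwa [map_mul, MulAut.mul_apply]
  have heq : MulAut.conj (r * r') '' sameCommutingClass D d = sameCommutingClass D d :=
    Set.eq_of_subset_of_ncard_le (Set.image_subset_iff.2 hmap)
      (by rw [Set.ncard_image_of_injective _ (MulAut.conj (r * r')).injective]) (Set.toFinite _)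
  obtain ⟨s0, hs0, rfl⟩ : s ∈ MulAut.conj (r * r') '' sameCommutingClass D d := heq.symm ▸ hs
  exact himg ▸ pp_conj hD (r * r') (hz s0 hs0).1

theorem top_spread [Finite G] (hd : d ∈ D) (h : IsTopMem D d z) :
    ∀ z' ∈ sameCommutingClass D z, ∀ s ∈ sameCommutingClass D d, z' ∈ productPartners D s := by
  refine S.pp_spread hd fun b hb => ?_
  obtain ⟨hzb, q, F⟩ := S.top_frame hb.1 (top_cls hb h)
  exact ⟨hzb, _, F.mD S.rset, F.four_zm S.rset, F.sq_zm S.rset⟩

end Setup

end Cfsg.Agent.RootInv81
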